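import Groth.Agent.EtQC.Chev.LocalBase
import Groth.Agent.S10048

/-!
# Finite covers by schemes of spaces over affine schemes
-/

set_option autoImplicit false
set_option backward.isDefEq.respectTransparency false
set_option backward.isDefEq.respectTransparency.types false

universe u

set_option maxHeartbeats 1000000

open CategoryTheory CategoryTheory.Limits AlgebraicGeometry Opposite AlgSp
open Groth.Agent.AlgSpBase Groth.Agent.AlgSpLib

namespace Groth.Agent.EtQC.Chev.ProperCover

variable {S S' : Scheme.{u}}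

theorem exists_finite_cover_aux (g : S ⟶ S') [IsAffine S'] (P : Space S) {Z : Over S} [IsAffine Z.left]
    (q : P.obj ⟶ (yon S).obj Z) (hqc : IsQuasiCompactSp P.obj) (hqs : IsQuasiSeparatedMor q) :
    ∃ (T : Over S) (f : (yon S).obj T ⟶ P.obj), RepWith @IsFinite f ∧ IsSurjectiveMor f := by
  haveI : IsAffine ((Over.map g).obj Z).left := ‹IsAffine Z.left›
  let P' : Space S' := ⟨(jsh g).obj P.obj, isAlgSpace_jsh g P.property⟩
  have hqs' : IsQuasiSeparatedSp P'.obj :=
    AlgSpVal.isQuasiSeparatedSp_of_toAffine ((jsh g).map q ≫ (jshYonIso g Z).inv)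
      (AlgSpPts.isQuasiSeparatedMor_comp (LocalBase.isQuasiSeparatedMor_jsh g hqs) (repWith_of_isIso _ _))
  have hqc' : IsQuasiCompactSp P'.obj := LocalBase.isQuasiCompactSp_jsh g P.property hqc
  obtain ⟨U, φ, -, he, hs⟩ := AlgSpLib.CartierRegular.exists_affine_atlas P'.property hqc'
  obtain ⟨T', f', hfin, hsurj, -, -⟩ := S10048.result S' P' hqc' hqs' U φ he hs
  obtain ⟨k, hk⟩ := (yon S').map_surjective (f' ≫ jproj g P.obj)
  let T : Over S := Over.mk k.left
  let c : (Over.map g).obj T ≅ T' := Over.isoMk (Iso.refl _) ((Category.id_comp _).trans (Over.w k).symm)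
  let α : (jsh g).obj ((yon S).obj T) ⟶ (jsh g).obj P.obj :=
    ((jshYonIso g T).symm ≪≫ (yon S').mapIso c).hom ≫ f'
  have hα : α ≫ jproj g P.obj = jproj g ((yon S).obj T) := by
    simp only [α, Iso.trans_hom, Iso.symm_hom, Category.assoc, Functor.mapIso_hom]
    rw [← hk, ← Functor.map_comp, Iso.inv_comp_eq, jshYonIso_jproj]
    exact congrArg (yon S').map (Over.OverMorphism.ext (Category.id_comp _))
  let A : Space S := ⟨(yon S).obj T, IsAlgSpace.yon_obj T⟩
  let β : (spaceFunctor g).obj A ⟶ (spaceFunctor g).obj P :=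
    Over.homMk (ObjectProperty.homMk α) (ObjectProperty.hom_ext _ hα)
  obtain ⟨γ, hγ⟩ := (spaceFunctor g).map_surjective β
  have hγ' : (jsh g).map γ.hom = α := congrArg (fun m => m.left.hom) hγ
  have hf : RepWith @IsFinite γ.hom := (repWith_jsh_iff g _).1 (by
    rw [hγ']
    exact repWith_comp (repWith_of_isIso _ _) (AlgSpDec.isFiniteMor_iff_repWith.1 hfin))
  refine ⟨T, γ.hom, hf, (repWith_surjective_iff hf.rep).1 ((repWith_jsh_iff g _).1 ?_)⟩
  rw [hγ']
  exact repWith_comp (repWith_of_isIso _ _)
    ((repWith_surjective_iff (AlgSpDec.isFiniteMor_iff_repWith.1 hfin).rep).2 hsurj)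

/-- A quasi-compact quasi-separated space over an affine scheme has a finite surjection from a scheme. -/
theorem exists_finite_cover (P : Space S) {Z : Over S} [IsAffine Z.left] (q : P.obj ⟶ (yon S).obj Z)
    (hqc : IsQuasiCompactSp P.obj) (hqs : IsQuasiSeparatedMor q) :
    ∃ (T : Over S) (f : (yon S).obj T ⟶ P.obj), RepWith @IsFinite f ∧ IsSurjectiveMor f :=
  exists_finite_cover_aux (specULiftZIsTerminal.{u}.from S) P q hqc hqs

/-- The composite of a finite cover with a quasi-compact separated universally closed map to an affine scheme. -/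
theorem properties_comp (P : Space S) {Z T : Over S} [IsAffine Z.left] (q : P.obj ⟶ (yon S).obj Z)
    (hqc : IsQuasiCompactSp P.obj) (hsep : IsSeparatedMor q) (huc : IsUnivClosedMor q)
    (f : (yon S).obj T ⟶ P.obj) (hf : RepWith @IsFinite f) (t : T ⟶ Z) (ht : (yon S).map t = f ≫ q) :
    IsSeparated t.left ∧ UniversallyClosed t.left ∧ CompactSpace T.left := by
  have hfa : RepWith @IsAffineHom f := repWith_mono (fun _ _ k (_ : IsFinite k) => inferInstanceAs (IsAffineHom k)) _ hf
  refine ⟨?_, ?_, ?_⟩
  · refine (isSeparatedMor_yon_map_iff t).1 ?_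
    rw [ht]
    exact AlgSpPts.isSeparatedMor_comp (AlgSpDec.isSeparatedMor_of_repWith_affine hfa) hsep
  · have h : IsUnivClosedMor ((yon S).map t) := by
      rw [ht]
      exact AlgSpPts.isUnivClosedMor_comp P.property (IsAlgSpace.yon_obj _)
        (AlgSpDec.isUnivClosedMor_of_repWith_universallyClosed
          (repWith_mono (fun _ _ k (_ : IsFinite k) => inferInstanceAs (UniversallyClosed k)) _ hf)) huc
    exact (repWith_yon_map_iff _ _).1 (AlgSpDec.repWith_universallyClosed_of_univClosed (representable_yon_map t) h)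
  · exact (AlgSpPts.isQuasiCompactSp_yon_iff T).1 (AlgSpDec.isQuasiCompactSp_of_affine P.property f hfa hqc)

end Groth.Agent.EtQC.Chev.ProperCover
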