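import Groth.Agent.EtQC.Serre.Ring
import Groth.Agent.EtQC.CechQC
import Groth.Agent.EtQC.AffinePush
import Mathlib.AlgebraicGeometry.ZariskisMainTheorem

/-!
# Products of affine charts under a finite surjective cover by an affine scheme
-/

set_option autoImplicit false
set_option backward.isDefEq.respectTransparency false
set_option backward.isDefEq.respectTransparency.types false

universe u

set_option maxHeartbeats 800000

open CategoryTheory CategoryTheory.Limits AlgebraicGeometry Opposite AlgSp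

namespace Groth.Agent.EtQC.Chev

variable {S : Scheme.{u}} {X : Sp S}

/-- The two projections of a product of the site are jointly monomorphic on schemes. -/
theorem prod_hom_ext (V E : EtOver X) {W : Scheme.{u}} {g g' : W ⟶ (EtOver.prodObj V E).obj.left.left}
    (h1 : g ≫ (EtOver.prodFst V E).hom.left.left = g' ≫ (EtOver.prodFst V E).hom.left.left)
    (h2 : g ≫ (EtOver.prodSnd V E).hom.left.left = g' ≫ (EtOver.prodSnd V E).hom.left.left) : g = g' := by
  let P := (EtOver.prodObj V E).obj.left
  have hw : g' ≫ P.hom = g ≫ P.hom := by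
    rw [← Over.w (EtOver.prodFst V E).hom.left, ← Category.assoc, ← Category.assoc]
    exact congrArg (· ≫ V.obj.left.hom) h1.symm
  let a : Over.mk (g ≫ P.hom) ⟶ P := Over.homMk g rfl
  let b : Over.mk (g ≫ P.hom) ⟶ P := Over.homMk g' hw
  refine congrArg CommaMorphism.left (?_ : a = b)
  exact Functor.relativelyRepresentable.hom_ext' E.property.1 (Over.OverMorphism.ext h2) (Over.OverMorphism.ext h1)

variable {T : Over S} {f : (yon S).obj T ⟶ X} (hf : Representable f)

theorem bc_w (E : EtOver X) {W : EtOver ((yon S).obj T)} (b : W ⟶ EtOver.bcObj hf E) :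
    (yon S).map (b.hom.left ≫ EtOver.bcπ hf E) ≫ E.obj.hom = W.obj.hom ≫ f := by
  have h := (EtOver.isPullback_bcObj hf E).w
  calc (yon S).map (b.hom.left ≫ EtOver.bcπ hf E) ≫ E.obj.hom
      = ((yon S).map b.hom.left ≫ (yon S).map (EtOver.bcπ hf E)) ≫ E.obj.hom :=
        congrArg (· ≫ E.obj.hom) ((yon S).map_comp _ _)
    _ = (yon S).map b.hom.left ≫ (EtOver.bcObj hf E).obj.hom ≫ f :=
        (Category.assoc _ _ _).trans (congrArg ((yon S).map b.hom.left ≫ ·) h.symm)
    _ = W.obj.hom ≫ f := (Category.assoc _ _ _).symm.trans (congrArg (· ≫ f) (EtOver.w b))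

theorem bcMap_comp {E E' E'' : EtOver X} (g : E ⟶ E') (g' : E' ⟶ E'') :
    EtOver.bcMap hf (g ≫ g') = EtOver.bcMap hf g ≫ EtOver.bcMap hf g' :=
  (EtOver.bc hf).map_comp g g'

theorem bcπ_comp {F F' : EtOver X} (p : F' ⟶ F) {W : EtOver ((yon S).obj T)} (n : W ⟶ EtOver.bcObj hf F') :
    (n.hom.left ≫ EtOver.bcπ hf F') ≫ p.hom.left = (n ≫ EtOver.bcMap hf p).hom.left ≫ EtOver.bcπ hf F :=
  (Category.assoc _ _ _).trans ((congrArg (n.hom.left ≫ ·) (EtOver.bcMap_snd hf p).symm).trans
    (Category.assoc _ _ _).symm)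

theorem bc_hom_ext {F : EtOver X} {W : EtOver ((yon S).obj T)} {m m' : W ⟶ EtOver.bcObj hf F}
    (h : m.hom.left ≫ EtOver.bcπ hf F = m'.hom.left ≫ EtOver.bcπ hf F) : m = m' :=
  EtOver.hom_ext _ _ (hf.hom_ext ((EtOver.w m).trans (EtOver.w m').symm) h)

theorem left_prod_hom_ext (V E : EtOver X) {Z : Over S} {g g' : Z ⟶ (EtOver.prodObj V E).obj.left}
    (h1 : g ≫ (EtOver.prodFst V E).hom.left = g' ≫ (EtOver.prodFst V E).hom.left)
    (h2 : g ≫ (EtOver.prodSnd V E).hom.left = g' ≫ (EtOver.prodSnd V E).hom.left) : g = g' :=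
  Functor.relativelyRepresentable.hom_ext' E.property.1 h2 h1

/-- Two maps into the base change of a product agreeing on the projections agree. -/
theorem bc_prod_hom_ext (V E : EtOver X) {W : EtOver ((yon S).obj T)}
    {m m' : W ⟶ EtOver.bcObj hf (EtOver.prodObj V E)}
    (h1 : m ≫ EtOver.bcMap hf (EtOver.prodFst V E) = m' ≫ EtOver.bcMap hf (EtOver.prodFst V E))
    (h2 : m ≫ EtOver.bcMap hf (EtOver.prodSnd V E) = m' ≫ EtOver.bcMap hf (EtOver.prodSnd V E)) : m = m' := by
  apply bc_hom_ext hf
  apply left_prod_hom_ext V E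
  · rw [bcπ_comp hf (EtOver.prodFst V E) m, bcπ_comp hf (EtOver.prodFst V E) m', h1]
  · rw [bcπ_comp hf (EtOver.prodSnd V E) m, bcπ_comp hf (EtOver.prodSnd V E) m', h2]

/-- Maps to two base changes lift to the base change of the product. -/
theorem exists_bc_prod_lift (V E : EtOver X) {W : EtOver ((yon S).obj T)}
    (a : W ⟶ EtOver.bcObj hf V) (b : W ⟶ EtOver.bcObj hf E) :
    ∃ m : W ⟶ EtOver.bcObj hf (EtOver.prodObj V E), m ≫ EtOver.bcMap hf (EtOver.prodFst V E) = a ∧
      m ≫ EtOver.bcMap hf (EtOver.prodSnd V E) = b := by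
  let r := E.property.1.lift' (b.hom.left ≫ EtOver.bcπ hf E) (a.hom.left ≫ EtOver.bcπ hf V)
    ((bc_w hf E b).trans (bc_w hf V a).symm)
  have r1 : r ≫ (EtOver.prodSnd V E).hom.left = b.hom.left ≫ EtOver.bcπ hf E :=
    Functor.relativelyRepresentable.lift'_fst _ _ _ _
  have r2 : r ≫ (EtOver.prodFst V E).hom.left = a.hom.left ≫ EtOver.bcπ hf V :=
    Functor.relativelyRepresentable.lift'_snd _ _ _ _
  have hr : W.obj.hom ≫ f = (yon S).map r ≫ (EtOver.prodObj V E).obj.hom :=
    (bc_w hf V a).symm.trans (((congrArg (· ≫ V.obj.hom)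
      ((congrArg (yon S).map r2.symm).trans ((yon S).map_comp _ _))).trans (Category.assoc _ _ _)).trans
        (congrArg ((yon S).map r ≫ ·) (EtOver.w (EtOver.prodFst V E))))
  let m : W ⟶ EtOver.bcObj hf (EtOver.prodObj V E) :=
    EtOver.homMk (hf.lift W.obj.hom r hr) (hf.lift_fst _ _ _)
  have hm : m.hom.left ≫ EtOver.bcπ hf (EtOver.prodObj V E) = r := hf.lift_snd _ _ _
  have k : ∀ {F : EtOver X} (p : EtOver.prodObj V E ⟶ F) (c : W ⟶ EtOver.bcObj hf F),
      r ≫ p.hom.left = c.hom.left ≫ EtOver.bcπ hf F → m ≫ EtOver.bcMap hf p = c := fun {F} p c h =>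
    EtOver.hom_ext _ _ (hf.hom_ext ((EtOver.w (m ≫ EtOver.bcMap hf p)).trans (EtOver.w c).symm)
      (((Category.assoc _ _ _).trans ((congrArg (m.hom.left ≫ ·) (EtOver.bcMap_snd hf p)).trans
        ((Category.assoc _ _ _).symm.trans (congrArg (· ≫ p.hom.left) hm)))).trans h))
  exact ⟨m, k _ a r2, k _ b r1⟩

/-- Base change takes products to fibre products over the final object. -/
theorem isPullback_bc_prod (V E : EtOver X) :
    IsPullback (EtOver.bcMap hf (EtOver.prodFst V E)) (EtOver.bcMap hf (EtOver.prodSnd V E))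
      (Serre.toTop (EtOver.bcObj hf V)) (Serre.toTop (EtOver.bcObj hf E)) :=
  ⟨⟨Serre.top_hom_ext _ _⟩, ⟨PullbackCone.IsLimit.mk _
    (fun s => (exists_bc_prod_lift hf V E s.fst s.snd).choose)
    (fun s => (exists_bc_prod_lift hf V E s.fst s.snd).choose_spec.1)
    (fun s => (exists_bc_prod_lift hf V E s.fst s.snd).choose_spec.2)
    (fun s m h1 h2 => bc_prod_hom_ext hf V E
      (h1.trans (exists_bc_prod_lift hf V E s.fst s.snd).choose_spec.1.symm)
      (h2.trans (exists_bc_prod_lift hf V E s.fst s.snd).choose_spec.2.symm))⟩⟩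

theorem isAffine_top [IsAffine T.left] : IsAffine (Serre.top T).obj.left.left := ‹IsAffine T.left›

variable (hfin : IsFiniteMor f) (hsurj : IsSurjectiveMor f)

include hsurj in
theorem surjective_bcπ (E : EtOver X) : Surjective (EtOver.bcπ hf E).left := by
  refine ⟨fun e => ?_⟩
  obtain ⟨ξ, hξ⟩ := hsurj (Points.ofPt E.obj.hom e)
  obtain ⟨w, -, hw⟩ := AlgSpPts.exists_lift (EtOver.isPullback_bcObj hf E) hξ
  exact ⟨w, hw⟩

variable [IsAffine T.left]

include hfin hsurj hf in
/-- Products of affine objects are affine. -/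
theorem isAffine_prod (V E : EtOver X) [IsAffine V.obj.left.left] [IsAffine E.obj.left.left] :
    IsAffine (EtOver.prodObj V E).obj.left.left := by
  haveI := isAffine_top (T := T)
  haveI := isFinite_bcπ hf hfin V
  haveI := isFinite_bcπ hf hfin E
  haveI : IsAffine (EtOver.bcObj hf V).obj.left.left := isAffine_of_isAffineHom (EtOver.bcπ hf V).left
  haveI : IsAffine (EtOver.bcObj hf E).obj.left.left := isAffine_of_isAffineHom (EtOver.bcπ hf E).left
  let P := EtOver.prodObj V E
  let p := (EtOver.prodFst V E).hom.left.left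
  let q := (EtOver.prodSnd V E).hom.left.left
  let Y := pullback (terminal.from V.obj.left.left) (terminal.from E.obj.left.left)
  let j : P.obj.left.left ⟶ Y := pullback.lift p q (terminal.hom_ext _ _)
  haveI : Mono j := ⟨fun g g' h => prod_hom_ext V E
    (by simpa only [Category.assoc, j, pullback.lift_fst] using congrArg (· ≫ pullback.fst _ _) h)
    (by simpa only [Category.assoc, j, pullback.lift_snd] using congrArg (· ≫ pullback.snd _ _) h)⟩
  let π := (EtOver.bcπ hf P).left
  haveI : Surjective π := surjective_bcπ hf hsurj P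
  haveI : IsFinite π :=
    MorphismProperty.of_isPullback (EtOver.isPullback_bcMap_left hf (EtOver.prodSnd V E)) (isFinite_bcπ hf hfin E)
  have sq := isPullback_left' (isPullback_bc_prod hf V E)
  let a := (Serre.toTop (EtOver.bcObj hf V)).hom.left.left
  let b := (Serre.toTop (EtOver.bcObj hf E)).hom.left.left
  let bv : (EtOver.bcObj hf V).obj.left.left ⟶ V.obj.left.left := (EtOver.bcπ hf V).left
  let be : (EtOver.bcObj hf E).obj.left.left ⟶ E.obj.left.left := (EtOver.bcπ hf E).left
  haveI : IsFinite bv := isFinite_bcπ hf hfin V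
  haveI : IsFinite be := isFinite_bcπ hf hfin E
  let t := terminal.from (Serre.top T).obj.left.left
  haveI : IsFinite (pullback.map (a ≫ t) (b ≫ t) (terminal.from V.obj.left.left) (terminal.from E.obj.left.left)
      bv be (𝟙 _) (terminal.hom_ext _ _) (terminal.hom_ext _ _)) :=
    MorphismProperty.pullbackMap (P := @IsFinite) ‹IsFinite bv› ‹IsFinite be› (terminal.hom_ext _ _) (terminal.hom_ext _ _)
  have hfac : π ≫ j = sq.isoPullback.hom ≫ pullback.mapDesc a b t ≫
      pullback.map (a ≫ t) (b ≫ t) (terminal.from V.obj.left.left) (terminal.from E.obj.left.left)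
        bv be (𝟙 _) (terminal.hom_ext _ _) (terminal.hom_ext _ _) := by
    apply pullback.hom_ext
    · simp only [j, Category.assoc, pullback.lift_fst, pullback.lift_fst_assoc, Category.comp_id]
      rw [← Category.assoc sq.isoPullback.hom, IsPullback.isoPullback_hom_fst]
      exact congrArg CommaMorphism.left (EtOver.bcMap_snd hf (EtOver.prodFst V E)).symm
    · simp only [j, Category.assoc, pullback.lift_snd, pullback.lift_snd_assoc, Category.comp_id]
      rw [← Category.assoc sq.isoPullback.hom, IsPullback.isoPullback_hom_snd]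
      exact congrArg CommaMorphism.left (EtOver.bcMap_snd hf (EtOver.prodSnd V E)).symm
  haveI : IsFinite (π ≫ j) := hfac ▸ inferInstance
  haveI : UniversallyClosed j := .of_comp_surjective π j
  haveI : CompactSpace ↥(EtOver.bcObj hf P).obj.left.left :=
    haveI := isAffine_of_isPullback (isPullback_bc_prod hf V E)
    inferInstance
  haveI : Etale p := EtOver.etale_left (EtOver.prodFst V E)
  haveI : LocallyOfFiniteType (j ≫ pullback.fst _ _) := by
    rw [pullback.lift_fst]
    infer_instance
  haveI : LocallyOfFiniteType j := locallyOfFiniteType_of_comp j (pullback.fst _ _)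
  haveI : IsProper j := { }
  haveI : IsClosedImmersion j := (IsClosedImmersion.iff_isProper_and_mono _).2 ⟨inferInstance, inferInstance⟩
  exact isAffine_of_isAffineHom j

end Groth.Agent.EtQC.Chev
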