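import Groth.Agent.EtQC.Alg
import Mathlib.RingTheory.Ideal.MinimalPrime.Localization
import Mathlib.RingTheory.Spectrum.Prime.Topology
import Mathlib.RingTheory.Localization.Integer
import Mathlib.RingTheory.Localization.FractionRing
import Mathlib.Algebra.Module.FinitePresentation
import Mathlib.RingTheory.Flat.Basic

/-!
# Homomorphisms out of finite modules: descent and non-vanishing
-/

set_option autoImplicit false

universe u v

open TensorProduct

namespace Groth.Agent.EtQC.Chev

set_option maxHeartbeats 1000000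

/-- Flat descent produces a fixed element from a fixed element after extension. -/
theorem exists_fixed_ne_zero {A C : Type u} [CommRing A] [CommRing C] [Algebra A C] [Module.Flat A C]
    {H M : Type v} [AddCommGroup H] [Module A H] [AddCommGroup M] [Module A M] (d₀ d₁ : H →ₗ[A] M)
    (z : C ⊗[A] H) (hz : z ≠ 0) (h : d₀.lTensor C z = d₁.lTensor C z) : ∃ x, x ≠ 0 ∧ d₀ x = d₁ x := by
  by_contra hne
  push_neg at hne
  have hi : Function.Injective (d₀ - d₁) := by
    rw [injective_iff_map_eq_zero]
    intro x hx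
    by_contra hx0
    exact hne x hx0 (sub_eq_zero.1 hx)
  refine hz (Module.Flat.lTensor_preserves_injective_linearMap (M := C) _ hi ?_)
  rw [map_zero, LinearMap.lTensor_sub, LinearMap.sub_apply, h, sub_self]

/-- Finitely many elements of a minimal prime over an ideal have a common non-trivial annihilator modulo it. -/
theorem exists_smul_mem_of_minimalPrimes {R : Type u} [CommRing R] {I p : Ideal R} (hp : p ∈ I.minimalPrimes)
    (s : Finset R) (hs : (s : Set R) ⊆ p) :
    ∃ c : R, (∀ t ∉ p, t * c ∉ I) ∧ ∀ x ∈ s, ∃ t ∉ p, t * (x * c) ∈ I := by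
  classical
  haveI := hp.1.1
  induction s using Finset.induction with
  | empty => exact ⟨1, fun t ht h => ht (hp.1.2 (by rwa [mul_one] at h)), by simp⟩
  | insert x s hx ih =>
    obtain ⟨c, hc, hcs⟩ := ih fun y hy => hs (Finset.mem_coe.2 (Finset.mem_insert_of_mem hy))
    obtain ⟨t, ht, n, hn⟩ : ∃ t, t ∉ p ∧ ∃ n, t * (x ^ n * c) ∈ I := by
      by_contra hcon
      push_neg at hcon
      have hxp : x ∈ p := hs (Finset.mem_coe.2 (Finset.mem_insert_self x s))
      let M : Submonoid R :=
        { carrier := {r | ∃ t ∉ p, ∃ n, r = t * x ^ n}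
          one_mem' := ⟨1, fun h => hp.1.1.ne_top ((Ideal.eq_top_iff_one p).2 h), 0, by simp⟩
          mul_mem' := by
            rintro _ _ ⟨t, ht, n, rfl⟩ ⟨t', ht', n', rfl⟩
            exact ⟨t * t', fun h => (hp.1.1.mem_or_mem h).elim ht ht', n + n', by ring⟩ }
      have hdis : Disjoint (I : Set R) M := Set.disjoint_left.2 fun r hr hrM => by
        obtain ⟨t, ht, n, rfl⟩ := hrM
        refine hcon t ht n ?_
        rw [← mul_assoc]
        exact I.mul_mem_right c hr
      obtain ⟨q, hq, hIq, hqM⟩ := Ideal.exists_le_prime_disjoint I M hdis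
      haveI := hq
      have hqp : q ≤ p := fun r hr => by
        by_contra hr'
        exact Set.disjoint_left.1 hqM hr ⟨r, hr', 0, by simp⟩
      have : p ≤ q := hp.2 ⟨hq, hIq⟩ hqp
      exact Set.disjoint_left.1 hqM (this hxp) ⟨1, fun h => hp.1.1.ne_top ((Ideal.eq_top_iff_one p).2 h), 1, by simp⟩
    have H : ∃ n, ∃ t ∉ p, t * (x ^ n * c) ∈ I := ⟨n, t, ht, hn⟩
    have h0 : Nat.find H ≠ 0 := fun h => by
      obtain ⟨t, ht, hn⟩ := Nat.find_spec H
      rw [h, pow_zero, one_mul] at hn
      exact hc t ht hn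
    refine ⟨x ^ (Nat.find H - 1) * c, fun t ht h => Nat.find_min H (Nat.sub_one_lt h0) ⟨t, ht, h⟩, fun y hy => ?_⟩
    rcases Finset.mem_insert.1 hy with rfl | hy
    · obtain ⟨t, ht, hn⟩ := Nat.find_spec H
      refine ⟨t, ht, ?_⟩
      rwa [← mul_assoc y, ← pow_succ', Nat.sub_add_cancel (Nat.one_le_iff_ne_zero.2 h0)]
    · obtain ⟨t, ht, hn⟩ := hcs y hy
      refine ⟨t, ht, ?_⟩
      rw [show t * (y * (x ^ (Nat.find H - 1) * c)) = x ^ (Nat.find H - 1) * (t * (y * c)) by ring]
      exact I.mul_mem_left _ hn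

/-- A finitely presented algebra with surjective spectrum maps non-trivially into every non-zero module. -/
theorem exists_hom_ne_zero {R B : Type u} [CommRing R] [CommRing B] [Algebra R B]
    [Module.FinitePresentation R B] (hs : Function.Surjective (PrimeSpectrum.comap (algebraMap R B)))
    {M : Type v} [AddCommGroup M] [Module R M] {m : M} (hm : m ≠ 0) : ∃ l : B →ₗ[R] M, l ≠ 0 := by
  classical
  let I : Ideal R := LinearMap.ker (LinearMap.toSpanSingleton R M m)
  have hI : I ≠ ⊤ := fun h => hm (by
    have h1 : (1 : R) ∈ I := h ▸ Submodule.mem_top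
    simpa [I] using h1)
  obtain ⟨⟨p, hp⟩⟩ := Ideal.nonempty_minimalPrimes hI
  haveI hp' : p.IsPrime := hp.1.1
  obtain ⟨q, hq⟩ := hs ⟨p, hp'⟩
  have hq' : q.asIdeal.comap (algebraMap R B) = p := congrArg PrimeSpectrum.asIdeal hq
  let K := FractionRing (R ⧸ p)
  let L := FractionRing (B ⧸ q.asIdeal)
  let i : R ⧸ p →+* B ⧸ q.asIdeal := Ideal.quotientMap q.asIdeal (algebraMap R B) hq'.ge
  have hi : Function.Injective i := Ideal.quotientMap_injective' hq'.le
  have hgi : Function.Injective ((algebraMap (B ⧸ q.asIdeal) L).comp i) := fun a b h =>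
    hi (IsFractionRing.injective (B ⧸ q.asIdeal) L h)
  let iK : K →+* L := IsFractionRing.lift hgi
  letI : Algebra K L := iK.toAlgebra
  obtain ⟨ψ, hψ⟩ := LinearMap.exists_leftInverse_of_injective (Algebra.linearMap K L)
    (LinearMap.ker_eq_bot.2 iK.injective)
  have hψ1 : ψ 1 = 1 := by
    have := LinearMap.congr_fun hψ 1
    rwa [LinearMap.comp_apply, Algebra.linearMap_apply, map_one] at this
  let π : B →+* L := (algebraMap (B ⧸ q.asIdeal) L).comp (Ideal.Quotient.mk q.asIdeal)
  have hπ : ∀ r : R, π (algebraMap R B r) = algebraMap K L (algebraMap R K r) := fun r => by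
    show algebraMap (B ⧸ q.asIdeal) L (i (Ideal.Quotient.mk p r)) = iK (algebraMap R K r)
    rw [IsScalarTower.algebraMap_apply R (R ⧸ p) K]
    exact (IsFractionRing.lift_algebraMap hgi _).symm
  let φ : B →ₗ[R] K :=
    { toFun := fun b => ψ (π b)
      map_add' := fun a b => by rw [map_add, map_add]
      map_smul' := fun r b => by
        rw [Algebra.smul_def, map_mul, hπ, ← Algebra.smul_def, map_smul, RingHom.id_apply,
          IsScalarTower.algebraMap_smul] }
  have h3 : φ 1 = 1 := by
    show ψ (π 1) = 1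
    rw [map_one, hψ1]
  obtain ⟨n, k, f, g, hf, hfg⟩ := Module.FinitePresentation.exists_fin' R B
  let e : Fin n → (Fin n → R) := fun i => Pi.single i 1
  obtain ⟨c₀, hc₀⟩ := IsLocalization.exist_integer_multiples_of_finset (nonZeroDivisors (R ⧸ p))
    (Finset.univ.image fun i => φ (f (e i)))
  obtain ⟨c', hc'⟩ := Ideal.Quotient.mk_surjective (c₀ : R ⧸ p)
  have hw : ∀ i, ∃ w : R, algebraMap R K w = algebraMap R K c' * φ (f (e i)) := fun i => by
    obtain ⟨a, ha⟩ := hc₀ _ (Finset.mem_image_of_mem _ (Finset.mem_univ i))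
    obtain ⟨w, rfl⟩ := Ideal.Quotient.mk_surjective a
    refine ⟨w, ?_⟩
    rw [IsScalarTower.algebraMap_apply R (R ⧸ p) K, IsScalarTower.algebraMap_apply R (R ⧸ p) K c', ← Algebra.smul_def]
    exact ha.trans (congrArg (fun z : R ⧸ p => z • φ (f (e i))) hc'.symm)
  choose w hw using hw
  have hsum : ∀ v : Fin n → R, algebraMap R K (∑ i, v i * w i) = algebraMap R K c' * φ (f v) := fun v => by
    have hv : φ (f v) = ∑ i, v i • φ (f (e i)) := by
      conv_lhs => rw [pi_eq_sum_univ' v]
      simp only [map_sum, map_smul, e]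
    rw [hv, Finset.mul_sum, map_sum]
    exact Finset.sum_congr rfl fun i _ => by rw [map_mul, hw, Algebra.smul_def]; ring
  have hKer : ∀ r : R, algebraMap R K r = 0 → r ∈ p := fun r hr => by
    rw [IsScalarTower.algebraMap_apply R (R ⧸ p) K, map_eq_zero_iff _ (IsFractionRing.injective (R ⧸ p) K)] at hr
    exact Ideal.Quotient.eq_zero_iff_mem.1 hr
  let x : Fin k → R := fun j => ∑ i, g (Pi.single j 1) i * w i
  obtain ⟨c, hc, hcx⟩ := exists_smul_mem_of_minimalPrimes hp (Finset.univ.image x) (by
    intro r hr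
    obtain ⟨j, -, rfl⟩ := Finset.mem_image.1 (Finset.mem_coe.1 hr)
    refine hKer _ ?_
    rw [hsum, hfg.apply_apply_eq_zero, map_zero, mul_zero])
  choose t ht htx using fun j => hcx (x j) (Finset.mem_image_of_mem x (Finset.mem_univ j))
  have htp : (∏ j, t j) ∉ p := fun h => by
    obtain ⟨j, -, hj⟩ := hp'.prod_mem_iff.1 h
    exact ht j hj
  let a := (∏ j, t j) * c
  let l' : (Fin n → R) →ₗ[R] M :=
    (LinearMap.toSpanSingleton R M m).comp (∑ i, (a * w i) • (LinearMap.proj i : (Fin n → R) →ₗ[R] R))
  have hl' : ∀ v, l' v = (a * ∑ i, v i * w i) • m := fun v => by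
    simp only [l', LinearMap.comp_apply, LinearMap.toSpanSingleton_apply, LinearMap.coe_sum, Finset.sum_apply,
      LinearMap.smul_apply, LinearMap.proj_apply, smul_eq_mul, Finset.mul_sum]
    exact congrArg (· • m) (Finset.sum_congr rfl fun i _ => by ring)
  have hker : LinearMap.ker f ≤ LinearMap.ker l' := by
    rw [LinearMap.exact_iff.1 hfg]
    rintro _ ⟨v, rfl⟩
    rw [LinearMap.mem_ker]
    rw [pi_eq_sum_univ' v]
    simp only [map_sum, map_smul]
    refine Finset.sum_eq_zero fun j _ => ?_
    rw [hl']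
    have : a * x j ∈ I := by
      obtain ⟨d, hd⟩ := Finset.dvd_prod_of_mem t (Finset.mem_univ j)
      rw [show a * x j = d * (t j * (x j * c)) by simp only [a, hd]; ring]
      exact I.mul_mem_left _ (htx j)
    have h0 : (a * x j) • m = 0 := this
    rw [show (a * ∑ i, g (Pi.single j 1) i * w i) • m = 0 from h0, smul_zero]
  obtain ⟨v, hv⟩ := hf 1
  have hvp : ∑ i, v i * w i ∉ p := fun h => by
    have h1 : algebraMap R K c' = 0 := by
      have := hsum v
      rw [hv, h3, mul_one] at this
      rw [← this, IsScalarTower.algebraMap_apply R (R ⧸ p) K, Ideal.Quotient.algebraMap_eq,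
        Ideal.Quotient.eq_zero_iff_mem.2 h, map_zero]
    rw [IsScalarTower.algebraMap_apply R (R ⧸ p) K, Ideal.Quotient.algebraMap_eq, hc',
      map_eq_zero_iff _ (IsFractionRing.injective (R ⧸ p) K)] at h1
    exact nonZeroDivisors.ne_zero c₀.2 h1
  refine ⟨((LinearMap.ker f).liftQ l' hker).comp (f.quotKerEquivOfSurjective hf).symm.toLinearMap, fun h0 => ?_⟩
  have h := LinearMap.congr_fun h0 (f v)
  have he : (f.quotKerEquivOfSurjective hf).symm (f v) = Submodule.Quotient.mk v := by
    rw [LinearEquiv.symm_apply_eq]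
    rfl
  rw [LinearMap.comp_apply, LinearEquiv.coe_coe, he, Submodule.liftQ_apply, LinearMap.zero_apply, hl'] at h
  refine hc ((∑ i, v i * w i) * ∏ j, t j) (fun h' => (hp'.mem_or_mem h').elim hvp htp) ?_
  rw [show (∑ i, v i * w i) * (∏ j, t j) * c = a * ∑ i, v i * w i by simp only [a]; ring]
  exact h

section Hom

variable {R R' : Type u} [CommRing R] [CommRing R'] [Algebra R R'] [Module.Flat R R']
  {G Q G' Q' : Type v} [AddCommGroup G] [Module R G] [AddCommGroup Q] [Module R Q]
  [AddCommGroup G'] [Module R' G'] [AddCommGroup Q'] [Module R' Q'] [Module.FinitePresentation R G]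
  (rG : G →+ G') (hrG : ∀ (a : R) (x : G), rG (a • x) = RingHom.id R' (algebraMap R R' a) • rG x)
  (rQ : Q →+ Q') (hrQ : ∀ (a : R) (x : Q), rQ (a • x) = RingHom.id R' (algebraMap R R' a) • rQ x)
  (hG : Function.Bijective (gam (RingHom.id R') rG hrG)) (hQ : Function.Bijective (gam (RingHom.id R') rQ hrQ))
  (β : (G →ₗ[R] Q) →+ (G' →ₗ[R'] Q'))
  (hb : ∀ (a : R) (l : G →ₗ[R] Q), β (a • l) = RingHom.id R' (algebraMap R R' a) • β l)

include hG hQ in
/-- Homomorphisms out of finitely presented modules commute with flat base change. -/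
theorem bijective_gam_hom (hβ : ∀ l x, β l (rG x) = rQ (l x)) :
    Function.Bijective (gam (RingHom.id R') β hb) := by
  let lin : ∀ {N N' : Type v} [AddCommGroup N] [Module R N] [AddCommGroup N'] [Module R' N'] (r : N →+ N')
      (hr : ∀ (a : R) (x : N), r (a • x) = RingHom.id R' (algebraMap R R' a) • r x), R' ⊗[R] N →ₗ[R'] N' :=
    fun {N N'} _ _ _ _ r hr =>
      { gam (RingHom.id R') r hr with
        map_smul' := fun a z => by
          induction z using TensorProduct.induction_on with
          | zero => simp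
          | add x y hx hy =>
            change gam (RingHom.id R') r hr (a • x) = a • gam (RingHom.id R') r hr x at hx
            change gam (RingHom.id R') r hr (a • y) = a • gam (RingHom.id R') r hr y at hy
            show gam (RingHom.id R') r hr (a • (x + y)) = a • gam (RingHom.id R') r hr (x + y)
            rw [smul_add, map_add, map_add, smul_add, hx, hy]
          | tmul b n =>
            show gam (RingHom.id R') r hr ((a * b) ⊗ₜ n) = a • gam (RingHom.id R') r hr (b ⊗ₜ n)
            rw [gam_tmul, gam_tmul]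
            exact mul_smul a b _ }
  let eG : R' ⊗[R] G ≃ₗ[R'] G' := LinearEquiv.ofBijective (lin rG hrG) hG
  let eQ : R' ⊗[R] Q ≃ₗ[R'] Q' := LinearEquiv.ofBijective (lin rQ hrQ) hQ
  let e := (Module.FinitePresentation.isBaseChange_map R G Q R').equiv.trans (LinearEquiv.arrowCongr eG eQ)
  have key : ∀ z, gam (RingHom.id R') β hb z = e z := by
    intro z
    induction z using TensorProduct.induction_on with
    | zero => simp
    | add x y hx hy => simp only [map_add, hx, hy]
    | tmul c l =>
      rw [gam_tmul]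
      refine LinearMap.ext fun y => ?_
      obtain ⟨w, rfl⟩ := eG.surjective y
      simp only [e, LinearEquiv.trans_apply, IsBaseChange.equiv_tmul, LinearEquiv.arrowCongr_apply,
        LinearEquiv.symm_apply_apply]
      induction w using TensorProduct.induction_on with
      | zero => simp
      | add x y hx hy => simp only [map_add, hx, hy]
      | tmul b x =>
        show c • β l (b • rG x) = eQ (c • (b ⊗ₜ l x))
        rw [map_smul, hβ, map_smul]
        rfl
  rw [show (gam (RingHom.id R') β hb : R' ⊗[R] (G →ₗ[R] Q) → _) = e from funext key]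
  exact e.bijective

end Hom

end Groth.Agent.EtQC.Chev
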