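import Groth.Agent.EtQC.Chev.ProperCover
import Groth.Agent.AlgSpDec.LimAffineStage
import Groth.Agent.S7409
import Groth.Agent.PnCoh.Chow.Proper

/-!
# Chow's lemma by finite covers
-/

set_option autoImplicit false
set_option backward.isDefEq.respectTransparency false
set_option backward.isDefEq.respectTransparency.types false

universe u

set_option maxHeartbeats 1000000

open CategoryTheory CategoryTheory.Limits AlgebraicGeometry AlgSp
open Groth.Agent.AlgSpLib Groth.Agent.AlgSpPts

namespace Groth.Agent.EtQC.Chev.Chow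

variable {S : Scheme.{u}}

theorem isProperMor_of_repWith {F G : Sp S} {i : F ⟶ G} (hi : RepWith @IsProper i) : IsProperMor i := by
  refine ⟨?_, ⟨?_, ?_⟩, ?_⟩
  · exact repWith_diagonal hi fun g (_ : IsProper g) =>
      (inferInstance : IsClosedImmersion (pullback.diagonal g))
  · exact locP_of_repWith (repWith_mono
      (fun _ _ g (_ : IsProper g) => (inferInstance : LocallyOfFiniteType g)) _ hi)
  · exact isQuasiCompactMor_of_repWith (repWith_mono
      (fun _ _ g (_ : IsProper g) => (inferInstance : QuasiCompact g)) _ hi)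
  · exact univSp_of_repWith (fun _ _ _ h => isClosedMap_map h) (repWith_mono
      (fun _ _ g (_ : IsProper g) => (inferInstance : UniversallyClosed g)) _ hi)

theorem isProperMor_of_finite {F G : Sp S} {i : F ⟶ G} (hi : RepWith @IsFinite i) : IsProperMor i :=
  isProperMor_of_repWith (repWith_mono (fun _ _ g (_ : IsFinite g) => (inferInstance : IsProper g)) _ hi)

/-- Chow's lemma for a space separated of finite type over a scheme, given a finite cover by a scheme. -/
theorem exists_chow {X : Sp S} {Z T : Over S} [CompactSpace Z.left] [QuasiSeparatedSpace Z.left]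
    (hX : IsAlgSpace X) (q : X ⟶ (yon S).obj Z) (hsep : IsSeparatedMor q) (hft : IsFiniteTypeMor q)
    (g : (yon S).obj T ⟶ X) (hg : RepWith @IsFinite g) (hgs : IsSurjectiveMor g) :
    ∃ (n : ℕ) (T' : Over S) (a : (yon S).obj T' ⟶ X) (t : T' ⟶ Z) (j : T'.left ⟶ CohB1.ProjSpaceOver n Z.left),
      (yon S).map t = a ≫ q ∧ IsProperMor a ∧ IsSurjectiveMor a ∧ IsImmersion j ∧ QuasiCompact j ∧
        j ≫ CohB1.ProjSpaceOver.toBase n Z.left = t.left := by
  obtain ⟨t, ht⟩ := (yon S).map_surjective (g ≫ q)
  haveI : IsSeparated t.left := by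
    refine (isSeparatedMor_yon_map_iff t).1 ?_
    rw [ht]
    exact isSeparatedMor_comp (isProperMor_of_finite hg).1 hsep
  haveI : LocallyOfFiniteType t.left := (repWith_yon_map_iff _ _).1 (repWith_of_locP (IsAlgSpace.yon_obj _)
    (representable_yon_map t) (by
      rw [ht]; exact locP_comp (IsAlgSpace.yon_obj _) hX (IsAlgSpace.yon_obj _) (isProperMor_of_finite hg).2.1.1 hft.1))
  have hqc : IsQuasiCompactSp X :=
    hft.2 (IsAlgSpace.yon_obj _) ((isQuasiCompactSp_yon_iff _).2 inferInstance) (𝟙 _) (𝟙 X) q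
      (IsPullback.of_horiz_isIso ⟨by simp⟩)
  haveI : CompactSpace T.left := (isQuasiCompactSp_yon_iff T).1 (AlgSpDec.isQuasiCompactSp_of_affine hX g
    (repWith_mono (fun _ _ m (_ : IsFinite m) => inferInstanceAs (IsAffineHom m)) _ hg) hqc)
  haveI : QuasiCompact t.left := quasiCompact_of_compactSpace t.left
  obtain ⟨n, X', π, j, hj, hw, hπ, hπs⟩ := S7409.result t.left
  haveI := hπ; haveI := hπs
  let T' : Over S := Over.mk (π ≫ T.hom)
  let p : T' ⟶ T := Over.homMk π rfl
  haveI : CompactSpace X' := QuasiCompact.compactSpace_of_compactSpace π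
  haveI : IsProper (CohB1.ProjSpaceOver.toBase n Z.left) := by
    unfold CohB1.ProjSpaceOver.toBase
    exact MorphismProperty.pullback_snd _ _ (PnCoh.Chow.isProper_toSpec n _)
  haveI : QuasiSeparatedSpace ↥(CohB1.ProjSpaceOver n Z.left) :=
    quasiSeparatedSpace_of_quasiSeparated (CohB1.ProjSpaceOver.toBase n Z.left)
  have hp : RepWith @IsProper ((yon S).map p) := (repWith_yon_map_iff _ _).2 (inferInstanceAs (IsProper π))
  refine ⟨n, T', (yon S).map p ≫ g, p ≫ t, j, ?_,
    AlgSpPts.isProperMor_comp (IsAlgSpace.yon_obj _) (IsAlgSpace.yon_obj _) hX (isProperMor_of_repWith hp)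
      (isProperMor_of_finite hg), ?_, hj, quasiCompact_of_compactSpace j, hw⟩
  · rw [Functor.map_comp, ht, Category.assoc]
  · intro x
    obtain ⟨y, hy⟩ := hgs x
    obtain ⟨z, hz⟩ := (repWith_surjective_iff hp.rep).1 ((repWith_yon_map_iff _ _).2 (inferInstanceAs (Surjective π))) y
    exact ⟨z, by rw [Points.map_comp, hz, hy]⟩

end Groth.Agent.EtQC.Chev.Chow
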