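import Groth.Agent.EtQC.Chev.Aff
import Groth.Agent.AlgSpDec.AffineProps
import Groth.Agent.AlgSpPts.Diag
import Groth.Agent.AlgSpLib.Descends2
import Groth.Agent.AlgSpPts.FppfTarget
import Groth.Agent.AlgSpPts.Misc
import Groth.Agent.AlgSpLib.Points
import Groth.Agent.AlgSpLib.CartierRegular
import Groth.Agent.EtFound.Descent
import Groth.Agent.AlgSpDec.AffineLocal
import Groth.Agent.AlgSpDec.AffineRep

/-!
# Targets of universally closed surjections from affine schemes
-/

set_option autoImplicit false
set_option backward.isDefEq.respectTransparency false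
set_option backward.isDefEq.respectTransparency.types false

universe u

set_option maxHeartbeats 1000000

open CategoryTheory CategoryTheory.Limits AlgebraicGeometry Opposite AlgSp

namespace Groth.Agent.EtQC.Chev

variable {S : Scheme.{u}} [IsAffine S] {X : Sp S} {T : Over S} [IsAffine T.left] {f : (yon S).obj T ⟶ X}
  (hf : RepWith @UniversallyClosed f) (hs : RepWith @Surjective f)

include hf hs in
theorem universallyClosed_bcπ (E : EtOver X) :
    UniversallyClosed (EtOver.bcπ hf.rep E).left ∧ Surjective (EtOver.bcπ hf.rep E).left :=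
  ⟨hf.2 _ _ _ (EtOver.isPullback_bcObj hf.rep E), hs.2 _ _ _ (EtOver.isPullback_bcObj hf.rep E)⟩

include hf hs in
/-- Products of affine objects are affine and closed in the product with the base. -/
theorem isClosedImmersion_prod (V E : EtOver X) [IsAffine V.obj.left.left] [IsAffine E.obj.left.left] :
    IsClosedImmersion (pullback.lift (EtOver.prodFst V E).hom.left.left (EtOver.prodSnd V E).hom.left.left
      ((Over.w (EtOver.prodFst V E).hom.left).trans (Over.w (EtOver.prodSnd V E).hom.left).symm) :
        (EtOver.prodObj V E).obj.left.left ⟶ pullback V.obj.left.hom E.obj.left.hom) := by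
  let P := EtOver.prodObj V E
  let p := (EtOver.prodFst V E).hom.left.left
  let q := (EtOver.prodSnd V E).hom.left.left
  let j : P.obj.left.left ⟶ pullback V.obj.left.hom E.obj.left.hom :=
    pullback.lift p q ((Over.w (EtOver.prodFst V E).hom.left).trans (Over.w (EtOver.prodSnd V E).hom.left).symm)
  change IsClosedImmersion j
  haveI : Mono j := ⟨fun g g' h => prod_hom_ext V E
    (by simpa only [Category.assoc, j, pullback.lift_fst] using congrArg (· ≫ pullback.fst _ _) h)
    (by simpa only [Category.assoc, j, pullback.lift_snd] using congrArg (· ≫ pullback.snd _ _) h)⟩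
  let π := (EtOver.bcπ hf.rep P).left
  haveI : Surjective π := (universallyClosed_bcπ hf hs P).2
  have sq := isPullback_left' (isPullback_bc_prod hf.rep V E)
  let a := (Serre.toTop (EtOver.bcObj hf.rep V)).hom.left.left
  let b := (Serre.toTop (EtOver.bcObj hf.rep E)).hom.left.left
  let bv : (EtOver.bcObj hf.rep V).obj.left.left ⟶ V.obj.left.left := (EtOver.bcπ hf.rep V).left
  let be : (EtOver.bcObj hf.rep E).obj.left.left ⟶ E.obj.left.left := (EtOver.bcπ hf.rep E).left
  let t : (Serre.top T).obj.left.left ⟶ S := T.hom
  haveI : IsAffine (Serre.top T).obj.left.left := ‹IsAffine T.left›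
  have e₁ : a ≫ t = bv ≫ V.obj.left.hom :=
    (Over.w (Serre.toTop (EtOver.bcObj hf.rep V)).hom.left).trans (Over.w (EtOver.bcπ hf.rep V)).symm
  have e₂ : b ≫ t = be ≫ E.obj.left.hom :=
    (Over.w (Serre.toTop (EtOver.bcObj hf.rep E)).hom.left).trans (Over.w (EtOver.bcπ hf.rep E)).symm
  haveI : UniversallyClosed (pullback.map (a ≫ t) (b ≫ t) V.obj.left.hom E.obj.left.hom bv be (𝟙 _)
      ((Category.comp_id _).trans e₁) ((Category.comp_id _).trans e₂)) :=
    MorphismProperty.pullbackMap (P := @UniversallyClosed) (universallyClosed_bcπ hf hs V).1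
      (universallyClosed_bcπ hf hs E).1 e₁ e₂
  have hfac : π ≫ j = sq.isoPullback.hom ≫ pullback.mapDesc a b t ≫
      pullback.map (a ≫ t) (b ≫ t) V.obj.left.hom E.obj.left.hom bv be (𝟙 _)
        ((Category.comp_id _).trans e₁) ((Category.comp_id _).trans e₂) := by
    apply pullback.hom_ext
    · simp only [j, Category.assoc, pullback.lift_fst, pullback.lift_fst_assoc, Category.comp_id]
      rw [← Category.assoc sq.isoPullback.hom, IsPullback.isoPullback_hom_fst]
      exact congrArg CommaMorphism.left (EtOver.bcMap_snd hf.rep (EtOver.prodFst V E)).symm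
    · simp only [j, Category.assoc, pullback.lift_snd, pullback.lift_snd_assoc, Category.comp_id]
      rw [← Category.assoc sq.isoPullback.hom, IsPullback.isoPullback_hom_snd]
      exact congrArg CommaMorphism.left (EtOver.bcMap_snd hf.rep (EtOver.prodSnd V E)).symm
  haveI : UniversallyClosed (π ≫ j) := hfac ▸ inferInstance
  haveI : UniversallyClosed j := .of_comp_surjective π j
  haveI : Etale p := EtOver.etale_left (EtOver.prodFst V E)
  haveI : LocallyOfFiniteType (j ≫ pullback.fst _ _) := by
    rw [pullback.lift_fst]
    infer_instance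
  haveI : LocallyOfFiniteType j := locallyOfFiniteType_of_comp j (pullback.fst _ _)
  haveI : IsProper j := { }
  exact (IsClosedImmersion.iff_isProper_and_mono j).2 ⟨inferInstance, inferInstance⟩

include hf hs in
theorem isAffine_prod' (V E : EtOver X) [IsAffine V.obj.left.left] [IsAffine E.obj.left.left] :
    IsAffine (EtOver.prodObj V E).obj.left.left :=
  haveI := isClosedImmersion_prod hf hs V E
  isAffine_of_isAffineHom (pullback.lift (EtOver.prodFst V E).hom.left.left (EtOver.prodSnd V E).hom.left.left
    ((Over.w (EtOver.prodFst V E).hom.left).trans (Over.w (EtOver.prodSnd V E).hom.left).symm))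

variable (hX : IsAlgSpace X)

include hX hf hs in
theorem isSeparatedSp_target {V : EtOver X} [IsAffine V.obj.left.left] (hV : RepWith @Surjective V.obj.hom) :
    IsSeparatedSp X := by
  have sq : IsPullback ((yon S).map (EtOver.prodFst V V).hom.left) ((yon S).map (EtOver.prodSnd V V).hom.left)
      V.obj.hom V.obj.hom := (V.property.1.isPullback' V.obj.hom).flip
  haveI := Groth.Agent.AlgSpPts.isLocalAtTarget_fppf (@IsClosedImmersion : MorphismProperty Scheme.{u})
  refine AlgSpPts.repWith_diag_of_chart @IsClosedImmersion hX.diag V.obj.hom V.property hV _ _ sq ?_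
  haveI := isClosedImmersion_prod hf hs V V
  let k := (Over.prodLeftIsoPullback V.obj.left V.obj.left).hom
  have hk : (prod.lift (EtOver.prodFst V V).hom.left (EtOver.prodSnd V V).hom.left).left ≫ k =
      pullback.lift (EtOver.prodFst V V).hom.left.left (EtOver.prodSnd V V).hom.left.left
        ((Over.w (EtOver.prodFst V V).hom.left).trans (Over.w (EtOver.prodSnd V V).hom.left).symm) := by
    apply pullback.hom_ext
    · simp only [k, Category.assoc, pullback.lift_fst, Over.prodLeftIsoPullback_hom_fst]
      rw [← Over.comp_left, prod.lift_fst]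
    · simp only [k, Category.assoc, pullback.lift_snd, Over.prodLeftIsoPullback_hom_snd]
      rw [← Over.comp_left, prod.lift_snd]
  exact (MorphismProperty.cancel_right_of_respectsIso (P := @IsClosedImmersion) _ k).1 (hk ▸ ‹_›)

include hX hf hs in
theorem isAffineMor_target {V : EtOver X} [IsAffine V.obj.left.left] (hV : RepWith @Surjective V.obj.hom) :
    IsAffineMor f := by
  haveI := isAffine_prod' hf hs V V
  haveI : IsAffine (Serre.top T).obj.left.left := ‹IsAffine T.left›
  let W := EtOver.bcObj hf.rep V
  haveI := (universallyClosed_bcπ hf hs V).1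
  haveI : CompactSpace ↥W.obj.left.left := QuasiCompact.compactSpace_of_compactSpace (EtOver.bcπ hf.rep V).left
  let a := (Serre.toTop W).hom.left.left
  haveI : QuasiCompact a := inferInstance
  haveI : Etale a := EtOver.etale_left (Serre.toTop W)
  haveI : Surjective a := by
    have h := (EtOver.isPullback_bcObj hf.rep V).flip
    rw [← Functor.map_preimage (yon S) W.obj.hom] at h
    exact hV.2 f _ _ h
  haveI : IsAffineHom (EtOver.prodFst V V).hom.left.left := inferInstance
  have h1 : IsAffineHom (EtOver.bcMap hf.rep (EtOver.prodFst V V)).hom.left.left :=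
    MorphismProperty.of_isPullback (P := @IsAffineHom)
      (EtOver.isPullback_bcMap_left hf.rep (EtOver.prodFst V V)).flip ‹_›
  haveI := Groth.Agent.EtFound.fpqc_isAffineHom.{u}
  have h2 : IsAffineHom a := MorphismProperty.of_isPullback_of_descendsAlong (P := @IsAffineHom)
    (Q := (@Surjective ⊓ @Flat ⊓ @QuasiCompact : MorphismProperty Scheme.{u}))
    (isPullback_left' (isPullback_bc_prod hf.rep V V)) ⟨⟨‹_›, inferInstance⟩, ‹_›⟩ h1
  haveI : IsAffine W.obj.left.left := isAffine_of_isAffineHom a
  haveI : IsAffineHom (EtOver.bcπ hf.rep V).left := inferInstance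
  exact AlgSpDec.isAffineMor_of_repWith le_rfl (AlgSpDec.repWith_of_etale_cover le_rfl V.property hV
    (EtOver.isPullback_bcObj hf.rep V) ((repWith_yon_map_iff _ _).2 ‹IsAffineHom (EtOver.bcπ hf.rep V).left›))

end Groth.Agent.EtQC.Chev
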