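import Groth.Agent.EtQC.Chev.Main
import Groth.Agent.EtQC.Chev.Sep
import Groth.Agent.AlgSpBase.SpaceEquiv
import Groth.Agent.AlgSpQMod.GenStages
import Groth.Agent.S10006
import Groth.Agent.S10732

/-!
# Chevalley's theorem for universally closed surjections
-/

set_option autoImplicit false
set_option backward.isDefEq.respectTransparency false
set_option backward.isDefEq.respectTransparency.types false

universe u

set_option maxHeartbeats 1000000

open CategoryTheory CategoryTheory.Limits AlgebraicGeometry Opposite AlgSp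
open Groth.Agent.AlgSpBase Groth.Agent.AlgSpLib

namespace Groth.Agent.EtQC.Chev

variable {S : Scheme.{u}}

theorem fpPush_of_repWith {X : Sp S} {T : Over S} {f : (yon S).obj T ⟶ X} (hf : Representable f)
    (hfin : IsFiniteMor f) (hfp : RepWith @LocallyOfFinitePresentation f) : FPPush hf := fun E hE => by
  haveI := hE
  haveI := WeakAssEtLib.isAffine_bcObj hf (isAffineMor_of_finite hfin) E hE
  haveI := isFinite_bcπ hf hfin E
  haveI : LocallyOfFinitePresentation (EtOver.bcπ hf E).left :=
    hfp.2 E.obj.hom _ _ (EtOver.isPullback_bcObj hf E)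
  letI : Algebra (Fn E) (Fn (EtOver.bcObj hf E)) := (bcFun hf E).toAlgebra
  haveI : Module.Finite (Fn E) (Fn (EtOver.bcObj hf E)) :=
    RingHom.finite_algebraMap.1 ((HasAffineProperty.iff_of_isAffine (P := @IsFinite)).1 ‹_›).2
  haveI : Algebra.FinitePresentation (Fn E) (Fn (EtOver.bcObj hf E)) :=
    RingHom.finitePresentation_algebraMap.1
      ((HasRingHomProperty.iff_of_isAffine (P := @LocallyOfFinitePresentation)).1 ‹_›)
  haveI := Module.FinitePresentation.of_finite_of_finitePresentation (Fn E) (Fn (EtOver.bcObj hf E))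
  exact Module.FinitePresentation.of_equiv (downEquiv hf E).symm

/-- Chevalley for finite finitely presented surjections. -/
theorem exists_iso_of_finite [QuasiSeparatedSpace ↥S] (Y : Space S) (hqc : IsQuasiCompactSp Y.obj)
    (hqs : IsQuasiSeparatedSp Y.obj) {T : Over S} [IsAffine T.left] (f : (yon S).obj T ⟶ Y.obj)
    (hfin : RepWith @IsFinite f) (hfp : RepWith @LocallyOfFinitePresentation f) (hsurj : IsSurjectiveMor f) :
    ∃ T' : Over S, IsAffine T'.left ∧ Nonempty ((yon S).obj T' ≅ Y.obj) := by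
  have hfin' := AlgSpDec.isFiniteMor_iff_repWith.2 hfin
  obtain ⟨U, φ, hU, he, hs⟩ := AlgSpLib.CartierRegular.exists_affine_atlas Y.property hqc
  let V : EtOver Y.obj := EtOver.mk φ he
  haveI : IsAffine V.obj.left.left := hU
  refine S10732.result Y hqc hqs fun M hM => ?_
  haveI := hM
  exact subsingleton_qcoh Y.property hqc hqs hfin.rep (fpPush_of_repWith hfin.rep hfin' hfp) hfin' hsurj (V := V) hs 1
    Nat.one_pos M (bcAll_of_isQuasicoherent M)

/-- Chevalley for integral surjections. -/
theorem exists_iso_of_integral [QuasiSeparatedSpace ↥S] (Y : Space S) (hqc : IsQuasiCompactSp Y.obj)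
    (hqs : IsQuasiSeparatedSp Y.obj) {T : Over S} [hT : IsAffine T.left] (f : (yon S).obj T ⟶ Y.obj)
    (hint : IsIntegralMor f) (hsurj : IsSurjectiveMor f) :
    ∃ T' : Over S, IsAffine T'.left ∧ Nonempty ((yon S).obj T' ≅ Y.obj) := by
  obtain ⟨I, _, _, _, D, t, c, hc, e, hD, hDa, hfin, hcomp⟩ :=
    AlgSpQMod.exists_finite_fp_limit (IsAlgSpace.yon_obj T) Y.property hqc hqs hint
  have hr : ∀ i, RepWith @IsFinite (t.app i) := fun i => AlgSpDec.isFiniteMor_iff_repWith.1 (hfin i).1
  have ha : ∀ i, RepWith @IsAffineHom (t.app i) := fun i =>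
    repWith_mono (fun _ _ g (_ : IsFinite g) => inferInstanceAs (IsAffineHom g)) _ (hr i)
  obtain ⟨i, T', hT', ⟨e'⟩⟩ := S10006.result S D hD hDa
    (fun i => AlgSpDec.isQuasiCompactSp_of_affine Y.property _ (ha i) hqc)
    (fun i => AlgSpDec.isQuasiSeparatedSp_of_affine _ (ha i) hqs) c hc T hT e.symm
  haveI := hT'
  refine exists_iso_of_finite Y hqc hqs (e'.hom ≫ t.app i) (repWith_comp (repWith_of_isIso _ _) (hr i))
    (repWith_comp (repWith_mono (fun _ _ g (_ : IsOpenImmersion g) => (inferInstance : LocallyOfFinitePresentation g)) _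
      (repWith_of_isIso @IsOpenImmersion e'.hom)) (repWith_of_locP Y.property (hr i).rep (hfin i).2.1)) fun y => ?_
  obtain ⟨x, hx⟩ := hsurj y
  refine ⟨Points.map (e.inv ≫ c.π.app i ≫ e'.inv) x, ?_⟩
  rw [← Points.map_comp]
  refine Eq.trans (congrArg (fun m => Points.map m x) ?_) hx
  rw [← hcomp i]
  simp

variable [IsAffine S] in
/-- Chevalley for universally closed surjections over an affine base. -/
theorem exists_iso_of_univClosed_affineBase (Y : Space S) {T : Over S} [IsAffine T.left]
    (f : (yon S).obj T ⟶ Y.obj) (hf : RepWith @UniversallyClosed f) (hs : RepWith @Surjective f) :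
    ∃ T' : Over S, IsAffine T'.left ∧ Nonempty ((yon S).obj T' ≅ Y.obj) := by
  have hsurj : IsSurjectiveMor f := (repWith_surjective_iff hs.rep).1 hs
  haveI : CompactSpace (Points ((yon S).obj T)) := (Points.schemeHomeo T).compactSpace
  have hqc : IsQuasiCompactSp Y.obj := by
    refine (AlgSpPts.isQuasiCompactSp_iff Y.property).2 ⟨?_⟩
    rw [← Set.range_eq_univ.2 hsurj]
    exact isCompact_range (Points.continuous_map f)
  obtain ⟨U, φ, hU, he, hV⟩ := AlgSpLib.CartierRegular.exists_affine_atlas Y.property hqc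
  let V : EtOver Y.obj := EtOver.mk φ he
  haveI : IsAffine V.obj.left.left := hU
  have hqs : IsQuasiSeparatedSp Y.obj :=
    repWith_mono (fun _ _ g (_ : IsClosedImmersion g) => (inferInstance : QuasiCompact g)) _
      (isSeparatedSp_target hf hs Y.property (V := V) hV)
  exact exists_iso_of_integral Y hqc hqs f (AlgSpDec.isIntegralMor_iff_affine_univClosed.2
    ⟨isAffineMor_target hf hs Y.property (V := V) hV, AlgSpDec.isUnivClosedMor_of_repWith_universallyClosed hf⟩) hsurj

section Base

variable {S' : Scheme.{u}} (g : S ⟶ S')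

theorem jshYonIso_jproj (T : Over S) :
    (jshYonIso g T).hom ≫ jproj g ((yon S).obj T) = (yon S').map (Over.homMk T.hom rfl : (Over.map g).obj T ⟶ Over.mk g) := by
  let k : T ⟶ Over.mk (𝟙 S) := Over.homMk T.hom (Category.comp_id _)
  have hk : (AlgSpPts.isTerminalYon S).from ((yon S).obj T) = (yon S).map k := (AlgSpPts.isTerminalYon S).hom_ext _ _
  rw [jproj, hk, ← Category.assoc, ← jshYonIso_natural g k, baseIso, Iso.trans_hom, Iso.symm_hom, Category.assoc,
    Iso.hom_inv_id_assoc, Functor.mapIso_hom, ← Functor.map_comp]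
  exact congrArg (yon S').map (Over.OverMorphism.ext (Category.comp_id _))

/-- Affineness descends from the extension to a smaller base. -/
theorem exists_iso_of_jsh (Y : Space S) {T' : Over S'} (hT' : IsAffine T'.left)
    (e : (yon S').obj T' ≅ (jsh g).obj Y.obj) :
    ∃ T'' : Over S, IsAffine T''.left ∧ Nonempty ((yon S).obj T'' ≅ Y.obj) := by
  obtain ⟨h, hh⟩ := (yon S').map_surjective (e.hom ≫ jproj g Y.obj)
  let T'' : Over S := Over.mk h.left
  let c : (Over.map g).obj T'' ≅ T' := Over.isoMk (Iso.refl _) ((Category.id_comp _).trans (Over.w h).symm)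
  let α : (jsh g).obj ((yon S).obj T'') ≅ (jsh g).obj Y.obj := (jshYonIso g T'').symm ≪≫ (yon S').mapIso c ≪≫ e
  have hα : α.hom ≫ jproj g Y.obj = jproj g ((yon S).obj T'') := by
    simp only [α, Iso.trans_hom, Iso.symm_hom, Category.assoc, Functor.mapIso_hom]
    rw [← hh, ← Functor.map_comp, Iso.inv_comp_eq, jshYonIso_jproj]
    exact congrArg (yon S').map (Over.OverMorphism.ext (Category.id_comp _))
  let A : Space S := ⟨(yon S).obj T'', IsAlgSpace.yon_obj T''⟩
  let β : (spaceFunctor g).obj A ≅ (spaceFunctor g).obj Y :=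
    Over.isoMk (ObjectProperty.isoMk _ α) (ObjectProperty.hom_ext _ hα)
  exact ⟨T'', hT', ⟨(ObjectProperty.ι _).mapIso ((spaceFunctor g).preimageIso β)⟩⟩

/-- Chevalley for universally closed surjections. -/
theorem exists_iso_of_univClosed (Y : Space S) {T : Over S} [hT : IsAffine T.left]
    (f : (yon S).obj T ⟶ Y.obj) (hf : RepWith @UniversallyClosed f) (hs : RepWith @Surjective f) :
    ∃ T' : Over S, IsAffine T'.left ∧ Nonempty ((yon S).obj T' ≅ Y.obj) := by
  let g := specULiftZIsTerminal.{u}.from S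
  haveI : IsAffine ((Over.map g).obj T).left := hT
  obtain ⟨T', hT', ⟨e⟩⟩ := exists_iso_of_univClosed_affineBase
    ⟨(jsh g).obj Y.obj, isAlgSpace_jsh g Y.property⟩ ((jshYonIso g T).hom ≫ (jsh g).map f)
    (repWith_comp (repWith_of_isIso _ _) ((repWith_jsh_iff g f).2 hf))
    (repWith_comp (repWith_of_isIso _ _) ((repWith_jsh_iff g f).2 hs))
  exact exists_iso_of_jsh g Y hT' e

end Base

end Groth.Agent.EtQC.Chev
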