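import Groth.Agent.EtQC.Chev.StageBase
import Groth.Agent.S10046
import Mathlib.RingTheory.FiniteType
import Mathlib.RingTheory.Jacobson.Ring
import Mathlib.AlgebraicGeometry.Morphisms.UniversallyInjective
import Mathlib.AlgebraicGeometry.Morphisms.Integral

/-!
# Spaces over a field which are schemes over an extension field
-/

set_option autoImplicit false
set_option backward.isDefEq.respectTransparency false
set_option backward.isDefEq.respectTransparency.types false

universe u

set_option maxHeartbeats 1000000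

open CategoryTheory CategoryTheory.Limits AlgebraicGeometry Opposite AlgSp
open Groth.Agent.AlgSpLib Groth.Agent.AlgSpPts

namespace Groth.Agent.EtQC.Chev.FieldExt

/-- Products with the same space are the fibre products over the final object. -/
theorem isPullback_prod {B : Scheme.{u}} (X : Sp B) (A : Over B) :
    IsPullback (prod.fst : X ⨯ (yon B).obj A ⟶ X) prod.snd ((isTerminalYon B).from X)
      ((yon B).map (Over.mkIdTerminal.from A)) :=
  IsPullback.of_is_product' (P := X ⨯ (yon B).obj A) (prodIsProd _ _) (isTerminalYon B)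
    |>.of_iso (Iso.refl _) (Iso.refl _) (Iso.refl _) (Iso.refl _) (by simp) (by simp)
      ((isTerminalYon B).hom_ext _ _) ((isTerminalYon B).hom_ext _ _)

/-- The product with a scheme mapping to one over which the space is a scheme is a scheme. -/
theorem isRepresentable_prod_of_map {B : Scheme.{u}} (X : Sp B) {A A' : Over B} (φ : A' ⟶ A)
    (h : (X ⨯ (yon B).obj A).obj.IsRepresentable) : (X ⨯ (yon B).obj A').obj.IsRepresentable := by
  obtain ⟨T, ⟨r⟩⟩ := h.has_representation
  let e := AlgSp.isoOfRepresentableBy r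
  obtain ⟨m, hm⟩ := (yon B).map_surjective (e.hom ≫ prod.snd)
  have sq : IsPullback (prod.map (𝟙 X) ((yon B).map φ)) prod.snd
      (prod.snd : X ⨯ (yon B).obj A ⟶ _) ((yon B).map φ) := by
    refine IsPullback.of_right (h₁₂ := (prod.fst : X ⨯ (yon B).obj A ⟶ X)) (v₁₃ := (isTerminalYon B).from X)
      (h₂₂ := (yon B).map (Over.mkIdTerminal.from A)) ?_ (by simp) (isPullback_prod X A)
    rw [prod.map_fst, Category.comp_id, ← Functor.map_comp, Over.mkIdTerminal.hom_ext (φ ≫ Over.mkIdTerminal.from A)
      (Over.mkIdTerminal.from A')]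
    exact isPullback_prod X A'
  have sq' : IsPullback ((yon B).map (pullback.fst m φ) ≫ e.hom) ((yon B).map (pullback.snd m φ))
      (prod.snd : X ⨯ (yon B).obj A ⟶ _) ((yon B).map φ) :=
    ((IsPullback.of_hasPullback m φ).map (yon B)).of_iso (Iso.refl _) e (Iso.refl _) (Iso.refl _)
      (by simp) (by simp) (by simp [hm]) (by simp)
  exact AlgSpDec.isRepresentable_of_iso (sq'.isoIsPullback _ _ sq)

/-- A space is a scheme over a base if it is over a surjective, radicial, integral extension of that base. -/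
theorem isRepresentable_prod_of_radicial {B : Scheme.{u}} (X : Space B) {A A' : Over B} (φ : A' ⟶ A)
    [IsIntegralHom φ.left] [UniversallyInjective φ.left] [Surjective φ.left]
    (h : (X.obj ⨯ (yon B).obj A').obj.IsRepresentable) : (X.obj ⨯ (yon B).obj A).obj.IsRepresentable := by
  have sq : IsPullback (prod.map (𝟙 X.obj) ((yon B).map φ)) prod.snd
      (prod.snd : X.obj ⨯ (yon B).obj A ⟶ _) ((yon B).map φ) := by
    refine IsPullback.of_right (h₁₂ := (prod.fst : X.obj ⨯ (yon B).obj A ⟶ X.obj)) (v₁₃ := (isTerminalYon B).from X.obj)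
      (h₂₂ := (yon B).map (Over.mkIdTerminal.from A)) ?_ (by simp) (isPullback_prod X.obj A)
    rw [prod.map_fst, Category.comp_id, ← Functor.map_comp, Over.mkIdTerminal.hom_ext (φ ≫ Over.mkIdTerminal.from A)
      (Over.mkIdTerminal.from A')]
    exact isPullback_prod X.obj A'
  have key : ∀ {P : MorphismProperty Scheme.{u}} [P.IsStableUnderBaseChange], P φ.left →
      RepWith P (prod.map (𝟙 X.obj) ((yon B).map φ)) := fun hP =>
    repWith_of_isPullback sq.flip ((repWith_yon_map_iff _ _).2 hP)
  let P : ∀ A : Over B, AlgSp.Space B := fun A => ⟨X.obj ⨯ (yon B).obj A,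
    isAlgSpace_of_isPullback (isPullback_prod X.obj A) X.property (IsAlgSpace.yon_obj _) (IsAlgSpace.yon_obj _)⟩
  have hinj : RepWith (fun _ _ (h : _ ⟶ _) => Function.Injective h) (prod.map (𝟙 X.obj) ((yon B).map φ)) :=
    repWith_mono (fun _ _ g (_ : UniversallyInjective g) => g.injective) _ (key (P := @UniversallyInjective) ‹_›)
  exact (S10046.result B (X := P A') (Y := P A) (ObjectProperty.homMk (prod.map (𝟙 X.obj) ((yon B).map φ)))
    (AlgSpDec.isIntegralMor_iff_repWith.2 (key (P := @IsIntegralHom) ‹_›))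
    ⟨injective_map hinj, (repWith_surjective_iff (key (P := @Surjective) ‹_›).rep).1 (key (P := @Surjective) ‹_›)⟩).1 h

variable {k : Type u} [Field k]

/-- The scheme of an algebra over the field. -/
noncomputable def ov (k : Type u) [Field k] (A : Type u) [CommRing A] [Algebra k A] :
    Over (Spec (CommRingCat.of k)) :=
  Over.mk (Spec.map (CommRingCat.ofHom (algebraMap k A)))

/-- The map of schemes of a map of algebras. -/
noncomputable def ovMap {A A' : Type u} [CommRing A] [Algebra k A] [CommRing A'] [Algebra k A']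
    (f : A →ₐ[k] A') : ov k A' ⟶ ov k A :=
  Over.homMk (Spec.map (CommRingCat.ofHom f.toRingHom)) (by
    dsimp [ov]
    rw [← Spec.map_comp]
    exact congrArg Spec.map (CommRingCat.hom_ext f.comp_algebraMap))

section Colim

variable (K : Type u) [CommRing K] [Algebra k K]

/-- Finitely generated subalgebras. -/
def FGSub : Type u := {T : Subalgebra k K // T.FG}

instance : Preorder (FGSub (k := k) K) := Subtype.preorder _

instance : Nonempty (FGSub (k := k) K) := ⟨⟨⊥, Subalgebra.fg_bot⟩⟩

instance : IsDirectedOrder (FGSub (k := k) K) :=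
  ⟨fun a b => ⟨⟨a.1 ⊔ b.1, a.2.sup b.2⟩, (le_sup_left : a.1 ≤ _), (le_sup_right : b.1 ≤ _)⟩⟩

/-- The subalgebras as rings. -/
def rings : FGSub (k := k) K ⥤ CommRingCat.{u} where
  obj T := CommRingCat.of T.1
  map h := CommRingCat.ofHom (Subalgebra.inclusion (leOfHom h)).toRingHom

/-- The inclusions. -/
def cocone : Cocone (rings (k := k) K) where
  pt := CommRingCat.of K
  ι := { app := fun T => CommRingCat.ofHom T.1.val.toRingHom }

/-- The algebra is the union of its finitely generated subalgebras. -/
noncomputable def isColimit : IsColimit (cocone (k := k) K) := by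
  haveI : ReflectsColimit (rings (k := k) K) (forget CommRingCat.{u}) := reflectsColimit_of_reflectsIsomorphisms _ _
  refine isColimitOfReflects (forget CommRingCat.{u}) ?_
  refine Types.FilteredColimit.isColimitOf' _ _ (fun z => ?_) fun i a b h => ?_
  · exact ⟨⟨Algebra.adjoin k {z}, ⟨{z}, by simp⟩⟩, ⟨z, Algebra.subset_adjoin rfl⟩, rfl⟩
  · exact ⟨i, 𝟙 i, congrArg ((rings K).map (𝟙 i)) (Subtype.ext h : a = b)⟩

/-- The spectra of the subalgebras over the field. -/
noncomputable def stages : (FGSub (k := k) K)ᵒᵖ ⥤ Over (Spec (CommRingCat.of k)) where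
  obj T := ov k T.unop.1
  map h := ovMap (Subalgebra.inclusion (leOfHom h.unop))
  map_id T := Over.OverMorphism.ext (by
    show Spec.map ((rings K).map (𝟙 T).unop) = 𝟙 _
    rw [unop_id, CategoryTheory.Functor.map_id, Spec.map_id])
  map_comp h h' := Over.OverMorphism.ext (by
    show Spec.map ((rings K).map (h ≫ h').unop) = Spec.map _ ≫ Spec.map _
    rw [unop_comp, CategoryTheory.Functor.map_comp, Spec.map_comp]
    rfl)

/-- The cone. -/
noncomputable def stagesCone : Cone (stages (k := k) K) where
  pt := ov k K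
  π :=
    { app := fun T => ovMap T.unop.1.val
      naturality := fun T T' h => Over.OverMorphism.ext (by
        refine (Category.id_comp _).trans ?_
        exact (congrArg Spec.map ((cocone K).w h.unop).symm).trans (Spec.map_comp _ _)) }

/-- It is a limit. -/
noncomputable def isLimit : IsLimit (stagesCone (k := k) K) := by
  have := IsCofiltered.isConnected (FGSub (k := k) K)ᵒᵖ
  refine isLimitOfReflects (Over.forget _) ?_
  exact (isLimitOfPreserves Scheme.Spec (isColimit K).op)

end Colim

theorem exists_fg_isRepresentable (X : Space (Spec (CommRingCat.of k))) (hqc : IsQuasiCompactSp X.obj)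
    (hqs : IsQuasiSeparatedSp X.obj) (K : Type u) [CommRing K] [Algebra k K]
    (h : (X.obj ⨯ (yon _).obj (ov k K)).obj.IsRepresentable) :
    ∃ T : Subalgebra k K, T.FG ∧ (X.obj ⨯ (yon _).obj (ov k T)).obj.IsRepresentable := by
  let B := Spec (CommRingCat.of k)
  let q := (isTerminalYon B).from X.obj
  have hqs' : IsQuasiSeparatedMor q := (AlgSpPts.isQuasiSeparatedSp_iff_mor _).1 hqs
  have hqc' : IsQuasiCompactMor q := AlgSpPts.isQuasiCompactMor_toBase X.property hqc
  obtain ⟨T, hT⟩ := Chev.StageBase.exists_stage_isRepresentable X q hqc' hqs' (stages (k := k) K)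
    (fun T => inferInstanceAs (IsAffine (Spec _))) (stagesCone K) (isLimit K)
    (AlgSpDec.isRepresentable_of_iso (AlgSp.isoOfRepresentableBy h.has_representation.choose_spec.some ≪≫
      (isPullback_prod X.obj (ov k K)).isoIsPullback _ _ (IsPullback.of_hasPullback _ _)))
  exact ⟨T.unop.1, T.unop.2, AlgSpDec.isRepresentable_of_iso (AlgSp.isoOfRepresentableBy hT.has_representation.choose_spec.some ≪≫
    ((isPullback_prod X.obj (ov k T.unop.1)).isoIsPullback _ _ (IsPullback.of_hasPullback _ _)).symm)⟩


set_option synthInstance.maxHeartbeats 200000 in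
theorem isRepresentable_algClosure (X : Space (Spec (CommRingCat.of k))) (hqc : IsQuasiCompactSp X.obj)
    (hqs : IsQuasiSeparatedSp X.obj) (K : Type u) [CommRing K] [Nontrivial K] [Algebra k K]
    (h : (X.obj ⨯ (yon _).obj (ov k K)).obj.IsRepresentable) (L : Type u) [Field L] [Algebra k L] [IsAlgClosed L] :
    (X.obj ⨯ (yon _).obj (ov k L)).obj.IsRepresentable := by
  obtain ⟨T, hT, hrep⟩ := exists_fg_isRepresentable X hqc hqs K h
  haveI : Algebra.FiniteType k T := T.fg_iff_finiteType.1 hT
  obtain ⟨m, hm⟩ := Ideal.exists_maximal T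
  letI := Ideal.Quotient.field m
  haveI : Module.IsTorsionFree k (T ⧸ m) := inferInstance
  haveI : Module.Finite k (T ⧸ m) := finite_of_finite_type_of_isJacobsonRing k (T ⧸ m)
  exact isRepresentable_prod_of_map X.obj (ovMap ((IsAlgClosed.lift : (T ⧸ m) →ₐ[k] L).comp (Ideal.Quotient.mkₐ k m))) hrep

end Groth.Agent.EtQC.Chev.FieldExt

namespace Groth.Agent.EtQC.Chev.FieldExt

/-- Every point of a space has a quasi-compact open subspace around it, indexed by the points of an atlas. -/
theorem exists_qc_open_cover {B : Scheme.{u}} (X : Space B) :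
    ∃ (ι : Type u) (U : ι → Space B) (j : ∀ i, (U i).obj ⟶ X.obj),
      (∀ i, RepWith @IsOpenImmersion (j i)) ∧ (∀ i, IsQuasiCompactSp (U i).obj) ∧
      ∀ x, ∃ i, x ∈ Set.range (Points.map (j i)) := by
  obtain ⟨A, a, ha, has⟩ := X.property.atlas
  have hsurj : IsSurjectiveMor a := (repWith_surjective_iff has.rep).1 has
  choose V hV hmem using fun v : ↥A.left =>
    (exists_isAffineOpen_mem_and_subset (U := (⊤ : A.left.Opens)) (x := v) trivial)
  let AV : ↥A.left → Over B := fun v => Over.mk ((V v).ι ≫ A.hom)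
  let aV : ∀ v, (yon B).obj (AV v) ⟶ X.obj := fun v => (yon B).map (Over.homMk (V v).ι rfl) ≫ a
  have hO : ∀ v, IsOpen (Set.range (Points.map (aV v))) := fun v =>
    (AlgSpPts.isOpenMap_map (repWith_mono
      (fun _ _ e (_ : Etale e) => inferInstanceAs (UniversallyOpen e)) _
      (repWith_comp (P := @Etale) ((repWith_yon_map_iff _ _).2 (inferInstanceAs (Etale (V v).ι))) ha))).isOpen_range
  choose U j hU hj hr using fun v => AlgSpPts.exists_open_subspace X.property (hO v)
  refine ⟨↥A.left, fun v => ⟨U v, hU v⟩, j, hj, fun v => ?_, fun x => ?_⟩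
  · let sq := (hj v).rep.isPullback (aV v)
    let W := (hj v).rep.pullback (aV v)
    haveI : IsOpenImmersion ((hj v).rep.snd (aV v)).left := (hj v).2 _ _ _ sq
    haveI : Surjective ((hj v).rep.snd (aV v)).left := ⟨fun p => by
      obtain ⟨z, hz⟩ := (hr v).symm.subset ⟨Points.ofScheme _ p, rfl⟩
      obtain ⟨w, -, hw⟩ := AlgSpPts.exists_lift sq (hz.trans (Points.ofPt_eq_map_ofScheme _ _).symm)
      exact ⟨w, hw⟩⟩
    haveI : IsAffine (AV v).left := hV v
    haveI : IsIso ((hj v).rep.snd (aV v)).left := (isIso_iff_isOpenImmersion_and_surjective _).2 ⟨inferInstance, inferInstance⟩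
    haveI : IsAffine W.left := IsAffine.of_isIso ((hj v).rep.snd (aV v)).left
    haveI : CompactSpace (Points ((yon B).obj W)) := (Points.schemeHomeo W).compactSpace
    refine (AlgSpPts.isQuasiCompactSp_iff (hU v)).2 ⟨?_⟩
    have : Function.Surjective (Points.map ((hj v).rep.fst (aV v))) := fun y => by
      obtain ⟨q, hq⟩ := (hr v).subset (Set.mem_range_self y)
      obtain ⟨p, rfl⟩ := (Points.schemeEquiv (AV v)).surjective q
      obtain ⟨w, hw, -⟩ := AlgSpPts.exists_lift sq (hq.symm.trans (Points.ofPt_eq_map_ofScheme _ _).symm)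
      exact ⟨_, (Points.ofPt_eq_map_ofScheme _ _).symm.trans hw⟩
    rw [← Set.range_eq_univ.2 this]
    exact isCompact_range (Points.continuous_map _)
  · obtain ⟨p, hp⟩ := hsurj x
    obtain ⟨v, rfl⟩ := (Points.schemeEquiv A).surjective p
    refine ⟨v, (hr v).symm.subset ⟨Points.ofScheme (AV v) ⟨v, hmem v |>.1⟩, ?_⟩⟩
    rw [← hp, Points.map_comp]
    exact congrArg (Points.map a) (Points.map_yon_map_apply _ _)

end Groth.Agent.EtQC.Chev.FieldExt

namespace Groth.Agent.EtQC.Chev.FieldExt

theorem isPullback_prodMap {B : Scheme.{u}} {U X : Sp B} (j : U ⟶ X) (A : Sp B) :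
    IsPullback (prod.map j (𝟙 A)) prod.fst (prod.fst : X ⨯ A ⟶ X) j := by
  refine IsPullback.of_right (h₁₂ := (prod.snd : X ⨯ A ⟶ A)) (v₁₃ := (isTerminalYon B).from A)
    (h₂₂ := (isTerminalYon B).from X) ?_ (by simp) (IsPullback.of_is_product' (prodIsProd X A) (isTerminalYon B)).flip
  rw [prod.map_snd, Category.comp_id, (isTerminalYon B).hom_ext (j ≫ (isTerminalYon B).from X) ((isTerminalYon B).from U)]
  exact (IsPullback.of_is_product' (prodIsProd U A) (isTerminalYon B)).flip

theorem isRepresentable_prod_open {B : Scheme.{u}} {U X : Sp B} {j : U ⟶ X} (hj : RepWith @IsOpenImmersion j)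
    (A : Sp B) (h : (X ⨯ A).obj.IsRepresentable) : (U ⨯ A).obj.IsRepresentable := by
  let e := AlgSp.isoOfRepresentableBy h.has_representation.choose_spec.some
  have hp : RepWith @IsOpenImmersion (prod.map j (𝟙 A)) := repWith_of_isPullback (isPullback_prodMap j A).flip hj
  have sq := hp.rep.isPullback e.hom
  haveI : IsIso (hp.rep.fst e.hom) := sq.isIso_fst_of_isIso
  exact AlgSpDec.isRepresentable_of_iso (asIso (hp.rep.fst e.hom))

theorem isRepresentable_prod_of_open_cover {B : Scheme.{u}} (X : Space B) (A : Over B) {ι : Type u}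
    {U : ι → Sp B} (j : ∀ i, U i ⟶ X.obj) (hj : ∀ i, RepWith @IsOpenImmersion (j i))
    (hc : ∀ x, ∃ i, x ∈ Set.range (Points.map (j i))) (h : ∀ i, (U i ⨯ (yon B).obj A).obj.IsRepresentable) :
    (X.obj ⨯ (yon B).obj A).obj.IsRepresentable := by
  let e := fun i => AlgSp.isoOfRepresentableBy (h i).has_representation.choose_spec.some
  obtain ⟨Q, ⟨eQ⟩, -⟩ := AlgSpDec.exists_iso_of_open_cover _ (fun i => (e i).hom ≫ prod.map (j i) (𝟙 _))
    (fun i => repWith_comp (repWith_of_isIso _ _) (repWith_of_isPullback (isPullback_prodMap (j i) _).flip (hj i)))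
    (fun y => by
      obtain ⟨i, u, hu⟩ := hc (Points.map prod.fst y)
      obtain ⟨z, hz, -⟩ := exists_point_of_isPullback (isPullback_prodMap (j i) _) hu.symm
      obtain ⟨v, hv⟩ := (Points.schemeEquiv _).surjective (Points.map (e i).inv z)
      refine ⟨i, v, ?_⟩
      rw [Points.ofPt_eq_map_ofScheme, show Points.ofScheme _ v = Points.map (e i).inv z from hv, ← Points.map_comp,
        Iso.inv_hom_id_assoc, hz])
  exact AlgSpDec.isRepresentable_of_iso eQ

end Groth.Agent.EtQC.Chev.FieldExt
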