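import Groth.Agent.EtQC.Chev.Chow
import Groth.Agent.EtQC.Chev.FieldExt
import Groth.Agent.S10009
import Groth.Agent.S10048
import Groth.Agent.S0590
import Groth.Agent.S9199
import Groth.Agent.S1616
import Groth.Agent.S7409

/-!
# Chow's lemma over a quasi-compact separated space
-/

set_option autoImplicit false
set_option backward.isDefEq.respectTransparency false
set_option backward.isDefEq.respectTransparency.types false

universe u

set_option maxHeartbeats 1000000

open CategoryTheory CategoryTheory.Limits AlgebraicGeometry Opposite AlgSp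
open Groth.Agent.AlgSpLib Groth.Agent.AlgSpPts

namespace Groth.Agent.EtQC.Chev.ChowSep

variable {S : Scheme.{u}}

/-- Maps to products of schemes over the base are the pairs of maps. -/
theorem isIso_lift_yon {P A B : Over S} (p : P ⟶ A) (q : P ⟶ B) (h : IsPullback p.left q.left A.hom B.hom) :
    IsIso (prod.lift ((yon S).map p) ((yon S).map q)) := by
  let tA := Over.mkIdTerminal.from A
  let tB := Over.mkIdTerminal.from B
  have hA : tA.left = A.hom := by simpa using Over.w tA
  have hB : tB.left = B.hom := by simpa using Over.w tB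
  have sq : IsPullback p q tA tB := IsPullback.of_map (Over.forget S) (Over.mkIdTerminal.hom_ext _ _) (by
    show IsPullback p.left q.left tA.left tB.left
    rw [hA, hB]; exact h)
  have h1 := sq.map (yon S)
  have h2 : IsPullback (prod.fst : (yon S).obj A ⨯ (yon S).obj B ⟶ _) prod.snd ((yon S).map tA) ((yon S).map tB) := by
    have := FieldExt.isPullback_prod ((yon S).obj A) B
    rwa [(isTerminalYon S).hom_ext ((isTerminalYon S).from ((yon S).obj A)) ((yon S).map tA)] at this
  rw [show prod.lift ((yon S).map p) ((yon S).map q) = (h1.isoIsPullback _ _ h2).hom from by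
    apply Limits.prod.hom_ext
    · rw [prod.lift_fst, IsPullback.isoIsPullback_hom_fst]
    · rw [prod.lift_snd, IsPullback.isoIsPullback_hom_snd]]
  infer_instance

/-- Base change of maps of schemes to products with a space. -/
theorem repWith_prodMap {P : MorphismProperty Scheme.{u}} [P.IsStableUnderBaseChange] {F G : Sp S} {m : F ⟶ G}
    (hm : RepWith P m) (A : Sp S) : RepWith P (prod.map m (𝟙 A)) :=
  repWith_of_isPullback (FieldExt.isPullback_prodMap m A).flip hm

theorem isSeparatedMor_prod_fst {Y : Space S} (hY : IsSeparatedSp Y.obj) (F : Sp S) :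
    IsSeparatedMor (prod.fst : F ⨯ Y.obj ⟶ F) :=
  isSeparatedMor_of_isPullback
    (IsPullback.of_is_product' (P := F ⨯ Y.obj) (prodIsProd F Y.obj) (isTerminalYon S)).flip
    ((repWith_diag_iff _ _).1 hY)

/-- The product with a fixed scheme on schemes, as a functor. -/
noncomputable def bcZ (S : Scheme.{u}) : Scheme.{u} ⥤ Over S where
  obj T := Over.mk (pullback.snd (specULiftZIsTerminal.from T) (specULiftZIsTerminal.from S))
  map f := Over.homMk (pullback.map _ _ _ _ f (𝟙 S) (𝟙 _) (specULiftZIsTerminal.hom_ext _ _) (by simp)) (by simp)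
  map_id T := Over.OverMorphism.ext (by simp)
  map_comp f g := Over.OverMorphism.ext (pullback.hom_ext (by simp) (by simp))

/-- Maps of fibre products in the first factor are base changes. -/
theorem isPullback_map {T T' S₀ B : Scheme.{u}} (a : T ⟶ B) (b : T' ⟶ B) (s : S₀ ⟶ B) (f : T ⟶ T') (h : f ≫ b = a) :
    IsPullback (pullback.map a s b s f (𝟙 S₀) (𝟙 B) (by simp [h]) (by simp)) (pullback.fst a s) (pullback.fst b s) f := by
  refine IsPullback.of_right (h₁₂ := pullback.snd b s) (v₁₃ := s) (h₂₂ := b) ?_ (by simp)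
    (IsPullback.of_hasPullback b s).flip
  rw [pullback.lift_snd, Category.comp_id, h]
  exact (IsPullback.of_hasPullback a s).flip

theorem isPullback_bcZ {T T' : Scheme.{u}} (f : T ⟶ T') :
    IsPullback ((bcZ S).map f).left (pullback.fst (specULiftZIsTerminal.from T) (specULiftZIsTerminal.from S))
      (pullback.fst (specULiftZIsTerminal.from T') (specULiftZIsTerminal.from S)) f :=
  isPullback_map _ _ _ f (specULiftZIsTerminal.hom_ext _ _)

/-- The graph of a scheme over the base in its product with the base. -/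
noncomputable def graph (Z : Over S) : Z ⟶ (bcZ S).obj Z.left :=
  Over.homMk (pullback.lift (𝟙 Z.left) Z.hom (specULiftZIsTerminal.hom_ext _ _)) (pullback.lift_snd _ _ _)

theorem isClosedImmersion_graph [S.IsSeparated] (Z : Over S) : IsClosedImmersion (graph Z).left := by
  haveI : IsSeparated (specULiftZIsTerminal.from S) := inferInstance
  haveI : IsSeparated (pullback.fst (specULiftZIsTerminal.from Z.left) (specULiftZIsTerminal.from S)) := inferInstance
  haveI : IsClosedImmersion ((graph Z).left ≫ pullback.fst (specULiftZIsTerminal.from Z.left) (specULiftZIsTerminal.from S)) := by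
    rw [show (graph Z).left ≫ pullback.fst _ _ = 𝟙 _ from pullback.lift_fst _ _ _]
    infer_instance
  exact IsClosedImmersion.of_comp (graph Z).left (pullback.fst (specULiftZIsTerminal.from Z.left) (specULiftZIsTerminal.from S))

/-- The projective space over the base. -/
noncomputable def projOver (n : ℕ) (S : Scheme.{u}) : Over S := Over.mk (CohB1.ProjSpaceOver.toBase n S)

/-- A qc separated space has a proper surjection from a scheme immersed in a projective space over it. -/
theorem exists_cover_immersion [S.IsSeparated] (Y : Space S) (hY1 : IsQuasiCompactSp Y.obj)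
    (hY2 : IsSeparatedSp Y.obj) :
    ∃ (n : ℕ) (Z' : Over S) (c : (yon S).obj Z' ⟶ Y.obj) (b : (yon S).obj Z' ⟶ (yon S).obj (projOver n S) ⨯ Y.obj),
      b ≫ prod.snd = c ∧ IsProperMor c ∧ IsSurjectiveMor c ∧ RepWith @IsImmersion b := by
  have hqs : IsQuasiSeparatedSp Y.obj :=
    repWith_mono (fun _ _ k (_ : IsClosedImmersion k) => (inferInstance : QuasiCompact k)) _ hY2
  obtain ⟨U, φ, -, he, hes⟩ := AlgSpLib.CartierRegular.exists_affine_atlas Y.property hY1
  obtain ⟨Z, c₀, hc, hcs, -, -⟩ := S10048.result S Y hY1 hqs U φ he hes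
  have hcr : RepWith @IsFinite c₀ := AlgSpDec.isFiniteMor_iff_repWith.1 hc
  haveI : CompactSpace Z.left := (isQuasiCompactSp_yon_iff Z).1 (AlgSpDec.isQuasiCompactSp_of_affine Y.property c₀
    (repWith_mono (fun _ _ m (_ : IsFinite m) => inferInstanceAs (IsAffineHom m)) _ hcr) hY1)
  haveI : IsSeparated Z.hom := by
    have h := isSeparatedMor_comp (Chev.Chow.isProperMor_of_finite hcr).1
      (g := (isTerminalYon S).from Y.obj) ((repWith_diag_iff _ _).1 hY2)
    rw [(isTerminalYon S).hom_ext (c₀ ≫ (isTerminalYon S).from Y.obj) ((yon S).map (Over.mkIdTerminal.from Z))] at h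
    have h' := (isSeparatedMor_yon_map_iff _).1 h
    rwa [show (Over.mkIdTerminal.from Z).left = Z.hom from by simpa using Over.w (Over.mkIdTerminal.from Z)] at h'
  haveI : Z.left.IsSeparated := ⟨by
    rw [terminal.hom_ext (terminal.from Z.left) (Z.hom ≫ terminal.from S)]
    infer_instance⟩
  obtain ⟨I, _, _, _, D, c, hc', hDa, hDf, ⟨eZ⟩⟩ := S0590.result Z.left
  haveI : Nonempty Iᵒᵖ := ⟨op (Classical.arbitrary I)⟩
  haveI : IsDirectedOrder I := ⟨fun a b => directed_of (· ≤ ·) a b⟩
  haveI := IsCofiltered.isConnected Iᵒᵖ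
  haveI : ∀ i, CompactSpace (D.obj i) := fun i => (hDf i).1
  haveI : ∀ i, LocallyOfFiniteType (specULiftZIsTerminal.from (D.obj i)) := fun i => (hDf i).2
  haveI : IsNoetherianRing (ULift.{u} ℤ) := isNoetherianRing_of_ringEquiv ℤ ULift.ringEquiv.symm
  haveI : ∀ i, IsLocallyNoetherian (D.obj i) := fun i =>
    LocallyOfFiniteType.isLocallyNoetherian (specULiftZIsTerminal.from (D.obj i))
  haveI : ∀ i j (a : i ⟶ j), IsAffineHom (D.map a) := hDa
  haveI : c.pt.IsSeparated := ⟨by
    rw [terminal.hom_ext (terminal.from c.pt) (eZ.hom ≫ terminal.from Z.left)]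
    infer_instance⟩
  let tT : D ⟶ (Functor.const Iᵒᵖ).obj (Spec (CommRingCat.of (ULift.{u} ℤ))) :=
    { app := fun i => specULiftZIsTerminal.from (D.obj i)
      naturality := fun i j a => specULiftZIsTerminal.hom_ext _ _ }
  obtain ⟨i₀⟩ := (inferInstance : Nonempty Iᵒᵖ)
  haveI : IsSeparated (c.π.app i₀ ≫ tT.app i₀) := by
    let m : c.pt ⟶ Spec (CommRingCat.of (ULift.{u} ℤ)) := c.π.app i₀ ≫ tT.app i₀
    haveI : IsSeparated (m ≫ terminal.from _) := by
      rw [terminal.hom_ext (m ≫ terminal.from _) (terminal.from c.pt)]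
      exact ‹c.pt.IsSeparated›.1
    exact IsSeparated.of_comp m (terminal.from _)
  obtain ⟨i₁, hi₁⟩ := S9199.result (Spec (CommRingCat.of (ULift.{u} ℤ))) D tT c hc' i₀
  -- the graph of the cover in the limit
  let D' : Iᵒᵖ ⥤ Over S := D ⋙ bcZ S
  let cD : Cone D' := (bcZ S).mapCone c
  have hcD : IsLimit cD := by
    refine isLimitOfReflects (Over.forget S) ?_
    let F : Scheme.{u} → Scheme.{u} := fun T => pullback (specULiftZIsTerminal.from T) (specULiftZIsTerminal.from S)
    refine
      { lift := fun s => pullback.lift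
          (hc'.lift ⟨s.pt, { app := fun i => s.π.app i ≫ pullback.fst _ _
                             naturality := fun i j a => by
                              have h : s.π.app j = s.π.app i ≫ (D'.map a).left := (s.w a).symm
                              dsimp
                              rw [Category.id_comp, h]
                              simp [D', bcZ] }⟩)
          (s.π.app i₀ ≫ pullback.snd _ _) (specULiftZIsTerminal.hom_ext _ _)
        fac := fun s i => ?_
        uniq := fun s m hm => ?_ }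
    · change _ ≫ pullback.map _ _ _ _ (c.π.app i) (𝟙 S) (𝟙 _) (specULiftZIsTerminal.hom_ext _ _) (by simp) = s.π.app i
      apply pullback.hom_ext
      · simp [hc'.fac]
      · have hij : ∀ {i j : Iᵒᵖ} (a : i ⟶ j), s.π.app i ≫ pullback.snd _ _ = s.π.app j ≫ pullback.snd _ _ :=
          fun {i j} a => by
            have h : s.π.app j = s.π.app i ≫ (D'.map a).left := (s.w a).symm
            rw [h]; simp [D', bcZ]
        let k := IsCofiltered.min i i₀
        simp only [Category.assoc, pullback.lift_snd, pullback.lift_snd_assoc, Category.comp_id]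
        exact (hij (IsCofiltered.minToRight i i₀)).symm.trans (hij (IsCofiltered.minToLeft i i₀))
    · apply pullback.hom_ext
      · refine hc'.hom_ext fun i => ?_
        simp only [pullback.lift_fst, hc'.fac]
        show _ = s.π.app i ≫ pullback.fst _ _
        have h : m ≫ pullback.map _ _ _ _ (c.π.app i) (𝟙 S) (𝟙 _) (specULiftZIsTerminal.hom_ext _ _) (by simp) = s.π.app i := hm i
        rw [← h]; simp
      · have h : m ≫ pullback.map _ _ _ _ (c.π.app i₀) (𝟙 S) (𝟙 _) (specULiftZIsTerminal.hom_ext _ _) (by simp) = s.π.app i₀ := hm i₀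
        simp [← h]
  have hY' := hY2
  let Q : Over S ⥤ Sp S :=
    { obj := fun W => (yon S).obj W ⨯ Y.obj
      map := fun f => prod.map ((yon S).map f) (𝟙 _)
      map_id := fun W => by simp
      map_comp := fun f g => by simp }
  have hQ : ∀ W, IsAlgSpace (Q.obj W) := fun W => isAlgSpace_prod (IsAlgSpace.yon_obj W) Y.property
  have hyD := isLimitOfPreserves (yon S) hcD
  let cQ : Cone (D' ⋙ Q) := Q.mapCone cD
  have hcQ : IsLimit cQ := by
    refine
      { lift := fun s => prod.lift (hyD.lift ⟨s.pt, { app := fun i => s.π.app i ≫ prod.fst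
                                                      naturality := fun i j a => by
                                                        have h : s.π.app j = s.π.app i ≫ (D' ⋙ Q).map a := (s.w a).symm
                                                        dsimp
                                                        rw [Category.id_comp, h]
                                                        simp [Q] }⟩) (s.π.app i₀ ≫ prod.snd)
        fac := fun s i => ?_
        uniq := fun s m hm => ?_ }
    · show _ ≫ prod.map ((yon S).map (cD.π.app i)) (𝟙 _) = _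
      apply Limits.prod.hom_ext
      · rw [prod.lift_map, prod.lift_fst]
        exact hyD.fac _ i
      · have hij : ∀ {i j : Iᵒᵖ} (a : i ⟶ j), s.π.app i ≫ (prod.snd : Q.obj (D'.obj i) ⟶ _) =
            s.π.app j ≫ (prod.snd : Q.obj (D'.obj j) ⟶ _) := fun {i j} a => by
          have h : s.π.app j = s.π.app i ≫ (D' ⋙ Q).map a := (s.w a).symm
          rw [h]; simp [Q]
        rw [prod.lift_map, prod.lift_snd, Category.comp_id]
        exact (hij (IsCofiltered.minToRight i i₀)).symm.trans (hij (IsCofiltered.minToLeft i i₀))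
    · apply Limits.prod.hom_ext
      · rw [prod.lift_fst]
        refine hyD.hom_ext fun i => ?_
        rw [hyD.fac]
        show _ = s.π.app i ≫ prod.fst
        have h : m ≫ prod.map ((yon S).map (cD.π.app i)) (𝟙 Y.obj) = s.π.app i := hm i
        rw [← h]; simp
      · have h : m ≫ prod.map ((yon S).map (cD.π.app i₀)) (𝟙 Y.obj) = s.π.app i₀ := hm i₀
        simp [← h]
  let ζ : Z ⟶ cD.pt := graph Z ≫ (bcZ S).map eZ.inv
  haveI : IsClosedImmersion ζ.left := by
    haveI := isClosedImmersion_graph Z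
    haveI : IsIso ((bcZ S).map eZ.inv).left := inferInstanceAs (IsIso ((Over.forget S).map ((bcZ S).map eZ.inv)))
    exact inferInstanceAs (IsClosedImmersion ((graph Z).left ≫ ((bcZ S).map eZ.inv).left))
  let y : (yon S).obj Z ⟶ cQ.pt := prod.lift ((yon S).map ζ) c₀
  have hy : RepWith @IsClosedImmersion y := by
    refine of_comp_of_diagonal (RepWith @IsClosedImmersion) y (prod.fst : (yon S).obj cD.pt ⨯ Y.obj ⟶ _) ?_
      (isSeparatedMor_prod_fst hY2 _)
    rw [prod.lift_fst]
    exact (repWith_yon_map_iff _ ζ).2 ‹_›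
  let tQ : D' ⋙ Q ⟶ (Functor.const Iᵒᵖ).obj Y.obj :=
    { app := fun i => prod.snd
      naturality := fun i j a => by simp [Q] }
  have hqcQ : ∀ i, IsQuasiCompactSp ((D' ⋙ Q).obj i) := fun i => by
    haveI : QuasiCompact (specULiftZIsTerminal.from (D.obj i)) := quasiCompact_of_compactSpace _
    haveI : QuasiCompact (D'.obj i).hom := MorphismProperty.pullback_snd _ _ ‹_›
    have h : RepWith @QuasiCompact ((yon S).map (Over.mkIdTerminal.from (D'.obj i))) := by
      refine (repWith_yon_map_iff _ _).2 ?_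
      rw [show (Over.mkIdTerminal.from (D'.obj i)).left = (D'.obj i).hom from by
        simpa using Over.w (Over.mkIdTerminal.from (D'.obj i))]
      infer_instance
    exact isQuasiCompactMor_of_repWith (repWith_of_isPullback
      (FieldExt.isPullback_prod Y.obj (D'.obj i)).flip h) Y.property hY1 (𝟙 _) (prod.braiding ((yon S).obj (D'.obj i)) Y.obj).hom prod.snd
      (IsPullback.of_horiz_isIso ⟨by simp⟩)
  obtain ⟨i₂, hi₂⟩ := S10009.result S Y (D' ⋙ Q) (fun i => hQ _) tQ
    (fun i j a => AlgSpDec.isAffineMor_of_repWith (P := @IsAffineHom) le_rfl (repWith_prodMap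
      ((repWith_yon_map_iff _ _).2 (MorphismProperty.of_isPullback
        (P := @IsAffineHom) (isPullback_bcZ (D.map a)).flip (hDa i j a))) _))
    cQ hcQ hqcQ ⟨(yon S).obj Z, IsAlgSpace.yon_obj _⟩ y hy i₀ (by
      rw [show y ≫ cQ.π.app i₀ ≫ tQ.app i₀ = c₀ from by
        show y ≫ prod.map _ (𝟙 _) ≫ prod.snd = c₀
        simp [y]]
      exact (Chev.Chow.isProperMor_of_finite hcr).2.1.1)
  obtain ⟨i, a₁, a₂, -⟩ := IsCofilteredOrEmpty.cone_objs i₁ i₂
  haveI : IsSeparated (specULiftZIsTerminal.from (D.obj i)) := hi₁ i a₁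
  have hk := hi₂ i a₂
  -- Chow over the integers
  let spZ := Spec (CommRingCat.of (ULift.{u} ℤ))
  haveI : QuasiCompact (specULiftZIsTerminal.from (D.obj i)) := quasiCompact_of_compactSpace _
  obtain ⟨n, W, π, j, hj, hjw, hπ, hπs⟩ := S7409.result (specULiftZIsTerminal.from (D.obj i))
  haveI := hj; haveI := hπ; haveI := hπs
  let ψ : (bcZ S).obj W ⟶ D'.obj i := (bcZ S).map π
  let ζi : Z ⟶ D'.obj i := ζ ≫ cD.π.app i
  let ki : (yon S).obj Z ⟶ (yon S).obj (D'.obj i) ⨯ Y.obj := y ≫ cQ.π.app i
  have hki : ki = prod.lift ((yon S).map ζi) c₀ := by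
    show prod.lift _ _ ≫ prod.map ((yon S).map (cD.π.app i)) (𝟙 _) = _
    rw [prod.lift_map, ← Functor.map_comp, Category.comp_id]
  let Z' : Over S := Over.mk (pullback.fst ζi.left ψ.left ≫ Z.hom)
  let pr : Z' ⟶ Z := Over.homMk (pullback.fst ζi.left ψ.left) rfl
  let ζ' : Z' ⟶ (bcZ S).obj W := Over.homMk (pullback.snd ζi.left ψ.left) (by
    show _ = pullback.fst _ _ ≫ Z.hom
    rw [← Over.w ψ, ← Over.w ζi, pullback.condition_assoc])
  have sqZ : IsPullback ((yon S).map ζ') ((yon S).map pr) ((yon S).map ψ) ((yon S).map ζi) :=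
    (IsPullback.of_map (Over.forget S) (f := ζ') (g := pr) (h := ψ) (i := ζi)
      (Over.OverMorphism.ext pullback.condition.symm)
      (IsPullback.of_hasPullback ζi.left ψ.left).flip).map (yon S)
  let k' : (yon S).obj Z' ⟶ (yon S).obj ((bcZ S).obj W) ⨯ Y.obj :=
    prod.lift ((yon S).map ζ') ((yon S).map pr ≫ c₀)
  have sqk : IsPullback k' ((yon S).map pr) (prod.map ((yon S).map ψ) (𝟙 Y.obj)) ki := by
    refine IsPullback.of_right (h₁₂ := (prod.fst : _ ⨯ Y.obj ⟶ _)) (v₁₃ := (yon S).map ψ)
      (h₂₂ := (prod.fst : _ ⨯ Y.obj ⟶ _)) ?_ ?_ (FieldExt.isPullback_prodMap _ _).flip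
    · rw [hki, prod.lift_fst, prod.lift_fst]
      exact sqZ
    · rw [hki, prod.lift_map, prod.comp_lift, sqZ.w, Category.comp_id]
  have hk' : RepWith @IsClosedImmersion k' := repWith_of_isPullback sqk.flip hk
  -- the immersion in projective space
  let spP := CohB1.ProjSpaceOver.toBase n S
  let jn : W ⟶ CohB1.ProjSpace n (ULift.{u} ℤ) := j ≫ pullback.fst _ _
  haveI : IsIso (specULiftZIsTerminal.from spZ) :=
    (specULiftZIsTerminal.hom_ext (𝟙 spZ) (specULiftZIsTerminal.from spZ)) ▸ inferInstance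
  haveI : IsImmersion jn := inferInstanceAs (IsImmersion (j ≫ _))
  let jS : (bcZ S).obj W ⟶ projOver n S := Over.homMk
    (pullback.map _ _ _ _ jn (𝟙 S) (𝟙 _) (specULiftZIsTerminal.hom_ext _ _) (by simp)) (by
      show _ ≫ pullback.snd _ _ = pullback.snd _ _
      simp)
  have hjS : IsImmersion jS.left :=
    MorphismProperty.of_isPullback (P := @IsImmersion) (isPullback_map _ (CohB1.ProjSpace.toSpec n (ULift.{u} ℤ)) _ jn (specULiftZIsTerminal.hom_ext _ _)).flip ‹_›
  refine ⟨n, Z', (yon S).map pr ≫ c₀, k' ≫ prod.map ((yon S).map jS) (𝟙 Y.obj), ?_, ?_, ?_,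
    repWith_comp (repWith_mono (fun _ _ m (_ : IsClosedImmersion m) => (inferInstance : IsImmersion m)) _ hk')
      (repWith_prodMap ((repWith_yon_map_iff _ _).2 hjS) _)⟩
  · simp [k']
  · have hpψ : IsProper ψ.left := MorphismProperty.of_isPullback (P := @IsProper) (isPullback_bcZ π).flip hπ
    exact isProperMor_comp (IsAlgSpace.yon_obj _) (IsAlgSpace.yon_obj _) Y.property
      (Chev.Chow.isProperMor_of_repWith ((repWith_yon_map_iff _ _).2
        (MorphismProperty.pullback_fst (P := @IsProper) _ _ hpψ)))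
      (Chev.Chow.isProperMor_of_finite hcr)
  · have hsψ : Surjective ψ.left := MorphismProperty.of_isPullback (P := @Surjective) (isPullback_bcZ π).flip hπs
    intro z
    obtain ⟨w, hw⟩ := hcs z
    obtain ⟨v, hv⟩ := (repWith_surjective_iff (representable_yon_map pr)).1 ((repWith_yon_map_iff _ pr).2
      (MorphismProperty.pullback_fst (P := @Surjective) _ _ hsψ)) w
    exact ⟨v, by rw [Points.map_comp, hv, hw]⟩

end Groth.Agent.EtQC.Chev.ChowSep

namespace Groth.Agent.EtQC.Chev.ChowSep

variable {S : Scheme.{u}}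

/-- Projective spaces over schemes over the base are base changes. -/
theorem exists_immersion_projOver (m : ℕ) (Z : Over S) :
    ∃ (u : (Over.mk (CohB1.ProjSpaceOver.toBase m Z.left ≫ Z.hom) : Over S) ⟶ projOver m S),
      IsPullback u.left (CohB1.ProjSpaceOver.toBase m Z.left) (projOver m S).hom Z.hom := by
  let v : CohB1.ProjSpaceOver m Z.left ⟶ CohB1.ProjSpaceOver m S :=
    pullback.map _ _ _ _ (𝟙 _) Z.hom (𝟙 _) (by simp) (specULiftZIsTerminal.hom_ext _ _)
  have hv : v ≫ CohB1.ProjSpaceOver.toBase m S = CohB1.ProjSpaceOver.toBase m Z.left ≫ Z.hom :=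
    pullback.lift_snd _ _ _
  refine ⟨Over.homMk v hv, IsPullback.of_right (h₁₂ := pullback.fst _ _)
    (v₁₃ := CohB1.ProjSpace.toSpec m (ULift.{u} ℤ)) (h₂₂ := specULiftZIsTerminal.from S) ?_ hv
    (IsPullback.of_hasPullback _ _)⟩
  show IsPullback (v ≫ pullback.fst _ _) (pullback.snd _ _) _ _
  rw [show v ≫ pullback.fst _ _ = pullback.fst _ _ from (pullback.lift_fst _ _ _).trans (Category.comp_id _),
    specULiftZIsTerminal.hom_ext (Z.hom ≫ specULiftZIsTerminal.from S) (specULiftZIsTerminal.from Z.left)]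
  exact IsPullback.of_hasPullback _ _

/-- Chow's lemma over a quasi-compact separated space. -/
theorem exists_chow_sep [S.IsSeparated] {X Y : Space S} (f : X.obj ⟶ Y.obj)
    (hY1 : IsQuasiCompactSp Y.obj) (hY2 : IsSeparatedSp Y.obj)
    (hf1 : IsSeparatedMor f) (hf2 : IsFiniteTypeMor f) :
    ∃ (n : ℕ) (T : Over S) (a : (yon S).obj T ⟶ X.obj)
      (b : (yon S).obj T ⟶ (yon S).obj (projOver n S) ⨯ Y.obj),
      b ≫ prod.snd = a ≫ f ∧ IsProperMor a ∧ IsSurjectiveMor a ∧ RepWith @IsImmersion b := by
  obtain ⟨n, Z', c, b₁, hb₁, hcp, hcs, hb₁i⟩ := exists_cover_immersion Y hY1 hY2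
  have hqsY : IsQuasiSeparatedSp Y.obj :=
    repWith_mono (fun _ _ k (_ : IsClosedImmersion k) => (inferInstance : QuasiCompact k)) _ hY2
  have hZqc : IsQuasiCompactSp ((yon S).obj Z') :=
    hcp.2.1.2 Y.property hY1 (𝟙 _) (𝟙 _) c (IsPullback.of_horiz_isIso ⟨by simp⟩)
  have hZqs : IsQuasiSeparatedSp ((yon S).obj Z') := by
    rw [isQuasiSeparatedSp_iff_mor, (isTerminalYon S).hom_ext ((isTerminalYon S).from _) (c ≫ (isTerminalYon S).from Y.obj)]
    exact isQuasiSeparatedMor_comp
      (repWith_mono (fun _ _ k (_ : IsClosedImmersion k) => (inferInstance : QuasiCompact k)) _ hcp.1)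
      ((isQuasiSeparatedSp_iff_mor _).1 hqsY)
  haveI : CompactSpace Z'.left := (isQuasiCompactSp_yon_iff Z').1 hZqc
  haveI : QuasiSeparated Z'.hom := (AlgSpDec.isQuasiSeparatedSp_yon_iff' Z').1 hZqs
  haveI : QuasiSeparatedSpace Z'.left := quasiSeparatedSpace_of_quasiSeparated Z'.hom
  have sq := IsPullback.of_hasPullback f c
  let XZ : AlgSp.Space S :=
    ⟨pullback f c, isAlgSpace_of_isPullback sq X.property (IsAlgSpace.yon_obj _) Y.property⟩
  let q : XZ.obj ⟶ (yon S).obj Z' := pullback.snd f c
  have hsep : IsSeparatedMor q := isSeparatedMor_of_isPullback sq hf1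
  have hft : IsFiniteTypeMor q :=
    ⟨locP_of_isPullback sq X.property Y.property (IsAlgSpace.yon_obj _) hf2.1, isQuasiCompactMor_of_isPullback sq hf2.2⟩
  have hXqc : IsQuasiCompactSp XZ.obj :=
    hft.2 (IsAlgSpace.yon_obj _) hZqc (𝟙 _) (𝟙 XZ.obj) q (IsPullback.of_horiz_isIso ⟨by simp⟩)
  have hXqs : IsQuasiSeparatedSp XZ.obj := by
    rw [isQuasiSeparatedSp_iff_mor, (isTerminalYon S).hom_ext ((isTerminalYon S).from XZ.obj) (q ≫ (isTerminalYon S).from _)]
    exact isQuasiSeparatedMor_comp
      (repWith_mono (fun _ _ k (_ : IsClosedImmersion k) => (inferInstance : QuasiCompact k)) _ hsep)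
      ((isQuasiSeparatedSp_iff_mor _).1 hZqs)
  obtain ⟨V, ψ, -, hve, hvs⟩ := AlgSpLib.CartierRegular.exists_affine_atlas XZ.property hXqc
  obtain ⟨T₀, g, hg, hgs, -, -⟩ := S10048.result S XZ hXqc hXqs V ψ hve hvs
  obtain ⟨m, T, a, t, j, hat, ha, has, hj, -, hw⟩ :=
    Chev.Chow.exists_chow XZ.property q hsep hft g (AlgSpDec.isFiniteMor_iff_repWith.1 hg) hgs
  obtain ⟨u, hu⟩ := exists_immersion_projOver m Z'
  let PZ : Over S := Over.mk (CohB1.ProjSpaceOver.toBase m Z'.left ≫ Z'.hom)
  let v : PZ ⟶ Z' := Over.homMk (CohB1.ProjSpaceOver.toBase m Z'.left) rfl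
  let jT : T ⟶ PZ := Over.homMk j (by
    show j ≫ CohB1.ProjSpaceOver.toBase m Z'.left ≫ Z'.hom = T.hom
    rw [← Category.assoc, hw, Over.w])
  haveI := isIso_lift_yon u v hu
  -- the product of the two projective spaces
  let PP : Over S := Over.mk (pullback.fst (CohB1.ProjSpaceOver.toBase m S) (CohB1.ProjSpaceOver.toBase n S) ≫
    CohB1.ProjSpaceOver.toBase m S)
  let p₁ : PP ⟶ projOver m S := Over.homMk (pullback.fst _ _) rfl
  let p₂ : PP ⟶ projOver n S := Over.homMk (pullback.snd _ _) pullback.condition.symm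
  haveI := isIso_lift_yon p₁ p₂ (IsPullback.of_hasPullback _ _)
  obtain ⟨σ, hσ, hσw⟩ := S1616.result S m n
  let σS : PP ⟶ projOver (m * n + m + n) S := Over.homMk σ hσw
  let Pm := (yon S).obj (projOver m S)
  let Pn := (yon S).obj (projOver n S)
  let e₁ : (yon S).obj PZ ⟶ Pm ⨯ (yon S).obj Z' := prod.lift ((yon S).map u) ((yon S).map v)
  let e₂ : (yon S).obj PP ⟶ Pm ⨯ Pn := prod.lift ((yon S).map p₁) ((yon S).map p₂)
  let ϕ : Pm ⨯ Pn ⟶ (yon S).obj (projOver (m * n + m + n) S) := inv e₂ ≫ (yon S).map σS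
  have hϕ : RepWith @IsImmersion ϕ := repWith_comp (repWith_of_isIso _ _)
    ((repWith_yon_map_iff _ σS).2 (inferInstanceAs (IsImmersion σ)))
  have h12 : RepWith @IsImmersion (prod.map (𝟙 Pm) b₁) := by
    refine repWith_of_isPullback (f := b₁) (g := (prod.snd : Pm ⨯ (Pn ⨯ Y.obj) ⟶ _)) (fst := prod.snd) (snd := prod.map (𝟙 Pm) b₁) ?_ hb₁i
    refine IsPullback.flip ?_
    exact IsPullback.of_right (h₁₂ := (prod.fst : Pm ⨯ (Pn ⨯ Y.obj) ⟶ _)) (v₁₃ := (isTerminalYon S).from Pm)
      (h₂₂ := (isTerminalYon S).from _)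
      (by
        rw [prod.map_fst, Category.comp_id, (isTerminalYon S).hom_ext (b₁ ≫ (isTerminalYon S).from _)
          ((isTerminalYon S).from ((yon S).obj Z'))]
        exact IsPullback.of_is_product' (prodIsProd _ _) (isTerminalYon S))
      (prod.map_snd _ _) (IsPullback.of_is_product' (prodIsProd _ _) (isTerminalYon S))
  let b : (yon S).obj T ⟶ (yon S).obj (projOver (m * n + m + n) S) ⨯ Y.obj :=
    ((yon S).map jT ≫ e₁) ≫ prod.map (𝟙 Pm) b₁ ≫ (prod.associator Pm Pn Y.obj).inv ≫ prod.map ϕ (𝟙 Y.obj)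
  refine ⟨m * n + m + n, T, a ≫ pullback.fst f c, b, ?_, ?_, ?_, ?_⟩
  · calc b ≫ prod.snd = (yon S).map (jT ≫ v) ≫ c := by
          simp [b, e₁, ← hb₁]
          erw [prod.lift_snd_assoc]
          simp
          rfl
      _ = a ≫ q ≫ c := by
          rw [show jT ≫ v = t from Over.OverMorphism.ext hw, hat, Category.assoc]
      _ = (a ≫ pullback.fst f c) ≫ f := by rw [Category.assoc, sq.w]
  · exact isProperMor_comp (IsAlgSpace.yon_obj _) XZ.property X.property ha
      (isProperMor_of_isPullback sq.flip (IsAlgSpace.yon_obj _) Y.property X.property hcp)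
  · intro x
    obtain ⟨z, hz⟩ := hcs (Points.map f x)
    obtain ⟨w, hw', -⟩ := exists_point_of_isPullback sq hz.symm
    obtain ⟨z', hz'⟩ := has w
    exact ⟨z', by rw [Points.map_comp, hz', hw']⟩
  · exact repWith_comp (repWith_comp ((repWith_yon_map_iff _ jT).2 hj) (repWith_of_isIso _ _))
      (repWith_comp h12 (repWith_comp (repWith_of_isIso _ _) (repWith_prodMap hϕ _)))

end Groth.Agent.EtQC.Chev.ChowSep
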