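import Groth.Agent.EtQC.Chev.Aff
import Groth.Agent.EtQC.Chev.Alg
import Groth.Agent.EtQC.FinPres
import Groth.Agent.EtQC.FP.HomColim

/-!
# Homomorphisms from the direct image of functions
-/

set_option autoImplicit false
set_option backward.isDefEq.respectTransparency false
set_option backward.isDefEq.respectTransparency.types false

universe u

set_option maxHeartbeats 800000

open CategoryTheory CategoryTheory.Limits AlgebraicGeometry Opposite AlgSp
open scoped TensorProduct
open Groth.Agent.EtQC.FPres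

namespace Groth.Agent.EtQC.Chev

variable {S : Scheme.{u}} {X : Sp S} {T : Over S} {f : (yon S).obj T ⟶ X} (hf : Representable f)

/-- The direct image of the functions. -/
noncomputable abbrev pO : ModEt X := (pushModEt hf).obj (Serre.oX ((yon S).obj T))

theorem isAffineMor_of_finite {F G : Sp S} {g : F ⟶ G} (hfin : IsFiniteMor g) : IsAffineMor g := fun Z hZ k => by
  obtain ⟨W, i, fst, sq, hW, -⟩ := hfin hZ k
  exact ⟨W, i, fst, sq, hW⟩

theorem ft_unit {Y : Sp S} : FT (Serre.oX Y) := fun E hE => by
  refine cover_self (fun V => IsAffine V.obj.left.left ∧ Module.Finite (Fn V) (sectModEt (Serre.oX Y) V)) ⟨hE, ?_⟩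
  exact Module.Finite.of_surjective
    ({ toFun := Serre.osec E, map_add' := Serre.osec_add E, map_smul' := fun _ _ => rfl } :
      Fn E →ₗ[Fn E] sectModEt (Serre.oX Y) E) (Serre.osec_surjective E)

/-- Multiplication by functions on the base change. -/
noncomputable def mulG (E : EtOver X) (b : Fn (EtOver.bcObj hf E)) :
    sectModEt (pO hf) E →ₗ[Fn E] sectModEt (pO hf) E where
  toFun x := (show sectModEt (Serre.oX _) (EtOver.bcObj hf E) from
    b • (show sectModEt (Serre.oX _) (EtOver.bcObj hf E) from x))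
  map_add' x y := smul_add b (show sectModEt (Serre.oX _) (EtOver.bcObj hf E) from x)
    (show sectModEt (Serre.oX _) (EtOver.bcObj hf E) from y)
  map_smul' a x := smul_comm b (bcFun hf E a) (show sectModEt (Serre.oX _) (EtOver.bcObj hf E) from x)

theorem mulG_add (E : EtOver X) (b b' : Fn (EtOver.bcObj hf E)) (x : sectModEt (pO hf) E) :
    mulG hf E (b + b') x = mulG hf E b x + mulG hf E b' x :=
  add_smul b b' (show sectModEt (Serre.oX _) (EtOver.bcObj hf E) from x)

theorem mulG_mul (E : EtOver X) (b b' : Fn (EtOver.bcObj hf E)) (x : sectModEt (pO hf) E) :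
    mulG hf E (b * b') x = mulG hf E b (mulG hf E b' x) :=
  mul_smul b b' (show sectModEt (Serre.oX _) (EtOver.bcObj hf E) from x)

theorem mulG_one (E : EtOver X) (x : sectModEt (pO hf) E) : mulG hf E 1 x = x :=
  one_smul _ (show sectModEt (Serre.oX _) (EtOver.bcObj hf E) from x)

theorem mulG_zero (E : EtOver X) (x : sectModEt (pO hf) E) : mulG hf E 0 x = 0 :=
  zero_smul _ (show sectModEt (Serre.oX _) (EtOver.bcObj hf E) from x)

theorem mulG_bcFun (E : EtOver X) (a : Fn E) (x : sectModEt (pO hf) E) : mulG hf E (bcFun hf E a) x = a • x := rfl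

theorem res_mulG {E P : EtOver X} (g : P ⟶ E) (b : Fn (EtOver.bcObj hf E)) (x : sectModEt (pO hf) E) :
    res (pO hf) g (mulG hf E b x) = mulG hf P (fmap (EtOver.bcMap hf g) b) (res (pO hf) g x) :=
  res_smul (Serre.oX _) (EtOver.bcMap hf g) b _

/-- Sections of the direct image of functions are functions on the base change. -/
noncomputable def downEquiv (E : EtOver X) :
    letI := (bcFun hf E).toAlgebra
    sectModEt (pO hf) E ≃ₗ[Fn E] Fn (EtOver.bcObj hf E) :=
  letI := (bcFun hf E).toAlgebra
  { toFun := fun x => ULift.down x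
    invFun := fun b => Serre.osec (EtOver.bcObj hf E) b
    left_inv := fun _ => rfl
    right_inv := fun _ => rfl
    map_add' := fun _ _ => rfl
    map_smul' := fun _ _ => rfl }

/-- The direct image of functions is finitely presented on affine objects. -/
def FPPush : Prop := ∀ (E : EtOver X), IsAffine E.obj.left.left →
  Module.FinitePresentation (Fn E) (sectModEt (pO hf) E)

theorem fpPush_of_noetherian (hfin : IsFiniteMor f) (hN : IsLocNoethSp X) : FPPush hf := fun E hE => by
  haveI := hE
  haveI := isNoetherianRing_fn hN E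
  haveI := finite_push hf hfin Serre.bcAll_unit ft_unit E
  exact Module.finitePresentation_of_finite _ _

theorem fpPush_of_fp (hA : IsAlgSpace X) (hfin : IsFiniteMor f) (hfp : IsFinitePresentationMor f) :
    FPPush hf := fun E hE => by
  haveI := hE
  haveI := WeakAssEtLib.isAffine_bcObj hf (isAffineMor_of_finite hfin) E hE
  haveI := isFinite_bcπ hf hfin E
  haveI : LocallyOfFinitePresentation (EtOver.bcπ hf E).left :=
    (AlgSpLib.repWith_of_locP hA hf hfp.1).2 E.obj.hom _ _ (EtOver.isPullback_bcObj hf E)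
  letI : Algebra (Fn E) (Fn (EtOver.bcObj hf E)) := (bcFun hf E).toAlgebra
  haveI : Module.Finite (Fn E) (Fn (EtOver.bcObj hf E)) :=
    RingHom.finite_algebraMap.1 ((HasAffineProperty.iff_of_isAffine (P := @IsFinite)).1 ‹_›).2
  haveI : Algebra.FinitePresentation (Fn E) (Fn (EtOver.bcObj hf E)) :=
    RingHom.finitePresentation_algebraMap.1
      ((HasRingHomProperty.iff_of_isAffine (P := @LocallyOfFinitePresentation)).1 ‹_›)
  haveI := Module.FinitePresentation.of_finite_of_finitePresentation (Fn E) (Fn (EtOver.bcObj hf E))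
  exact Module.FinitePresentation.of_equiv (downEquiv hf E).symm

variable (Q : ModEt X)

/-- Linear maps from the direct image of the functions on an object. -/
def LH (E : EtOver X) : Type (u + 1) := sectModEt (pO hf) E →ₗ[Fn E] sectModEt Q E

noncomputable instance (E : EtOver X) : AddCommGroup (LH hf Q E) :=
  inferInstanceAs (AddCommGroup (sectModEt (pO hf) E →ₗ[Fn E] sectModEt Q E))

noncomputable instance (E : EtOver X) : Module (Fn E) (LH hf Q E) :=
  inferInstanceAs (Module (Fn E) (sectModEt (pO hf) E →ₗ[Fn E] sectModEt Q E))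

variable {hf Q}

/-- The underlying linear map. -/
abbrev LH.lin {E : EtOver X} (l : LH hf Q E) : sectModEt (pO hf) E →ₗ[Fn E] sectModEt Q E := l

theorem LH.ext {E : EtOver X} {l l' : LH hf Q E} (h : ∀ x, l.lin x = l'.lin x) : l = l' := LinearMap.ext h

noncomputable instance (E : EtOver X) : Module (Fn (EtOver.bcObj hf E)) (LH hf Q E) where
  smul b l := l.lin.comp (mulG hf E b)
  one_smul l := LH.ext fun x => congrArg l.lin (mulG_one hf E x)
  mul_smul b b' l := LH.ext fun x => congrArg l.lin ((congrArg (fun c => mulG hf E c x) (mul_comm b b')).trans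
    (mulG_mul hf E b' b x))
  smul_zero b := LH.ext fun _ => rfl
  smul_add b l l' := LH.ext fun _ => rfl
  add_smul b b' l := LH.ext fun x => (congrArg l.lin (mulG_add hf E b b' x)).trans (map_add l.lin _ _)
  zero_smul l := LH.ext fun x => (congrArg l.lin (mulG_zero hf E x)).trans (map_zero l.lin)

theorem bsmul_apply {E : EtOver X} (b : Fn (EtOver.bcObj hf E)) (l : LH hf Q E) (x : sectModEt (pO hf) E) :
    (b • l).lin x = l.lin (mulG hf E b x) := rfl

theorem bcFun_smul {E : EtOver X} (a : Fn E) (l : LH hf Q E) : bcFun hf E a • l = a • l :=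
  LH.ext fun x => map_smul l.lin a x

theorem ext_res (haff : IsAffineMor f) {E P : EtOver X} [IsAffine E.obj.left.left] [IsAffine P.obj.left.left]
    (g : P ⟶ E) {l l' : LH hf Q P} (h : ∀ x, l.lin (res (pO hf) g x) = l'.lin (res (pO hf) g x)) : l = l' := by
  refine LH.ext fun y => LinearMap.eqOn_span ?_ (mem_span_res (bcAll_push hf haff Serre.bcAll_unit) g y)
  rintro _ ⟨x, rfl⟩
  exact h x

variable (haff : IsAffineMor f) {E P : EtOver X} [IsAffine E.obj.left.left] [IsAffine P.obj.left.left]

include haff in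
theorem exists_bmap (g : P ⟶ E) (l : LH hf Q E) :
    ∃ l' : LH hf Q P, ∀ x, l'.lin (res (pO hf) g x) = res Q g (l.lin x) :=
  exists_along (bcAll_push hf haff Serre.bcAll_unit) l.lin P g

/-- Restriction of linear maps. -/
noncomputable def bmap (g : P ⟶ E) : LH hf Q E →+ LH hf Q P :=
  AddMonoidHom.mk' (fun l => (exists_bmap haff g l).choose) fun l l' => ext_res haff g fun x => by
    show _ = (exists_bmap haff g l).choose.lin _ + (exists_bmap haff g l').choose.lin _
    rw [(exists_bmap haff g l).choose_spec, (exists_bmap haff g l').choose_spec,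
      (exists_bmap haff g (l + l')).choose_spec]
    exact map_add (res Q g) _ _

theorem bmap_spec (g : P ⟶ E) (l : LH hf Q E) (x : sectModEt (pO hf) E) :
    (bmap haff g l).lin (res (pO hf) g x) = res Q g (l.lin x) := (exists_bmap haff g l).choose_spec x

theorem bmap_bsmul (g : P ⟶ E) (b : Fn (EtOver.bcObj hf E)) (l : LH hf Q E) :
    bmap haff g (b • l) = fmap (EtOver.bcMap hf g) b • bmap haff g l :=
  ext_res haff g fun x => by
    rw [bmap_spec, bsmul_apply, bsmul_apply, ← res_mulG, bmap_spec]

theorem bmap_smul (g : P ⟶ E) (a : Fn E) (l : LH hf Q E) : bmap haff g (a • l) = fmap g a • bmap haff g l :=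
  ext_res haff g fun x => by
    show _ = fmap g a • (bmap haff g l).lin _
    rw [bmap_spec, bmap_spec]
    exact res_smul Q g a (l.lin x)

theorem bmap_comp {W : EtOver X} [IsAffine W.obj.left.left] (g : P ⟶ E) (k : W ⟶ P) (l : LH hf Q E) :
    bmap haff (k ≫ g) l = bmap haff k (bmap haff g l) :=
  ext_res haff (k ≫ g) fun x => by
    rw [bmap_spec, res_comp (pO hf) g k, bmap_spec, bmap_spec, res_comp]

theorem bmap_id (l : LH hf Q E) : bmap haff (𝟙 E) l = l :=
  ext_res haff (𝟙 E) fun x => by rw [bmap_spec, res_id, res_id]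

variable (hQ : BCAll Q) (hFP : FPPush hf) (hfin : IsFiniteMor f)

include hQ hFP hfin in
/-- Linear maps base change along maps of affine objects. -/
theorem bijective_gam_bmap (g : P ⟶ E) :
    letI := (fmap g).toAlgebra
    Function.Bijective (gam (RingHom.id (Fn P)) (bmap (Q := Q) (hf := hf) haff g) (bmap_smul haff g)) := by
  letI := (fmap g).toAlgebra
  haveI : Module.Flat (Fn E) (Fn P) := flat_fmap g
  haveI := hFP E ‹_›
  exact bijective_gam_hom (res (pO hf) g) (res_smul' (pO hf) g) (res Q g) (res_smul' Q g)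
    (bcAll_push hf haff Serre.bcAll_unit E ‹_› P g ‹_›) (hQ E ‹_› P g ‹_›)
    (bmap (Q := Q) (hf := hf) haff g) (bmap_smul haff g) (bmap_spec haff g)

section Desc

variable [IsAffine T.left]

/-- The functions on the affine cover. -/
abbrev FT₀ (T : Over S) : Type u := Fn (Serre.top T)

noncomputable instance (W : EtOver ((yon S).obj T)) : Algebra (FT₀ T) (Fn W) := (fmap (Serre.toTop W)).toAlgebra

noncomputable instance (E : EtOver X) : Module (FT₀ T) (LH hf Q E) :=
  Module.compHom _ (algebraMap (FT₀ T) (Fn (EtOver.bcObj hf E)))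

theorem fmap_algebraMap {W W' : EtOver ((yon S).obj T)} (m : W' ⟶ W) (a : FT₀ T) :
    fmap m (algebraMap (FT₀ T) (Fn W) a) = algebraMap (FT₀ T) (Fn W') a :=
  (fmap_comp (Serre.toTop W) m a).symm.trans (congrArg (fun φ => fmap φ a) (Serre.top_hom_ext _ _))

theorem bmap_asmul (g : P ⟶ E) (a : FT₀ T) (l : LH hf Q E) : bmap haff g (a • l) = a • bmap haff g l :=
  (bmap_bsmul haff g _ l).trans (congrArg (· • bmap haff g l) (fmap_algebraMap (EtOver.bcMap hf g) a))

variable {V : EtOver X} [IsAffine V.obj.left.left]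

theorem snd_smul (E : EtOver X) [IsAffine E.obj.left.left] [IsAffine (EtOver.prodObj V E).obj.left.left]
    (a : FT₀ T) (l : LH hf Q E) :
    bmap haff (EtOver.prodSnd V E) (a • l) = fmap (EtOver.bcMap hf (EtOver.prodFst V E))
      (algebraMap (FT₀ T) (Fn (EtOver.bcObj hf V)) a) • bmap haff (EtOver.prodSnd V E) l :=
  (bmap_asmul haff _ a l).trans (congrArg (· • bmap haff (EtOver.prodSnd V E) l)
    (fmap_algebraMap (EtOver.bcMap hf (EtOver.prodFst V E)) a).symm)

/-- The comparison map from the tensor product over the cover. -/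
noncomputable def phi (E : EtOver X) [IsAffine E.obj.left.left] [IsAffine (EtOver.prodObj V E).obj.left.left] :
    Fn (EtOver.bcObj hf V) ⊗[FT₀ T] LH hf Q E →+ LH hf Q (EtOver.prodObj V E) :=
  gam (fmap (EtOver.bcMap hf (EtOver.prodFst V E))) (bmap haff (EtOver.prodSnd V E)) (snd_smul haff E)

theorem phi_tmul (E : EtOver X) [IsAffine E.obj.left.left] [IsAffine (EtOver.prodObj V E).obj.left.left]
    (c : Fn (EtOver.bcObj hf V)) (l : LH hf Q E) :
    phi haff E (c ⊗ₜ l) = fmap (EtOver.bcMap hf (EtOver.prodFst V E)) c • bmap haff (EtOver.prodSnd V E) l := rfl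

include hQ hFP hfin in
theorem bijective_phi (E : EtOver X) [IsAffine E.obj.left.left] [IsAffine (EtOver.prodObj V E).obj.left.left] :
    Function.Bijective (phi (V := V) (Q := Q) (hf := hf) haff E) := by
  haveI := isAffine_top (T := T)
  let g := EtOver.prodSnd V E
  let P' := EtOver.prodObj V E
  haveI := WeakAssEtLib.isAffine_bcObj hf haff E ‹_›
  haveI := WeakAssEtLib.isAffine_bcObj hf haff V ‹_›
  haveI := WeakAssEtLib.isAffine_bcObj hf haff P' ‹_›
  haveI : IsScalarTower (FT₀ T) (Fn (EtOver.bcObj hf E)) (LH hf Q E) :=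
    IsScalarTower.of_algebraMap_smul fun _ _ => rfl
  let χ := fmap (EtOver.bcMap hf g)
  have h2 : letI := χ.toAlgebra
      Function.Bijective (gam (RingHom.id (Fn (EtOver.bcObj hf P'))) (bmap (Q := Q) haff g) (bmap_bsmul haff g)) := by
    letI := (fmap g).toAlgebra
    letI : Algebra (Fn E) (Fn (EtOver.bcObj hf E)) := (bcFun hf E).toAlgebra
    haveI : IsScalarTower (Fn E) (Fn (EtOver.bcObj hf E)) (LH hf Q E) :=
      IsScalarTower.of_algebraMap_smul fun a l => bcFun_smul a l
    have hr : ∀ (a : Fn E) (l : LH hf Q E), bmap haff g (a • l) =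
        bcFun hf P' (algebraMap (Fn E) (Fn P') a) • bmap haff g l := fun a l =>
      (bmap_smul haff g a l).trans (bcFun_smul (fmap g a) (bmap haff g l)).symm
    refine (gam_bijective_iff_of_isPushout (bcFun hf P') χ (isPushout_bc hf g) (bmap haff g) hr
      (bmap_bsmul haff g)).1 ?_
    have key : ∀ z, gam (bcFun hf P') (bmap haff g) hr z =
        gam (RingHom.id (Fn P')) (bmap (Q := Q) haff g) (bmap_smul haff g) z := by
      intro z
      induction z using TensorProduct.induction_on with
      | zero => simp only [map_zero]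
      | add x y hx hy => simp only [map_add, hx, hy]
      | tmul c l => exact bcFun_smul c (bmap haff g l)
    rw [show (gam (bcFun hf P') (bmap haff g) hr : _ → _) = _ from funext key]
    exact bijective_gam_bmap haff hQ hFP hfin g
  exact (gam_bijective_iff_of_isPushout (fmap (EtOver.bcMap hf (EtOver.prodFst V E))) χ
    (isPushout_of_isPullback (isPullback_bc_prod hf V E)) (bmap haff g) (snd_smul haff E)
    (bmap_bsmul haff g)).2 h2

include hQ hFP hfin in
/-- A non-zero linear map on the atlas gives a non-zero descending one. -/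
theorem exists_desc [IsAffine (EtOver.prodObj V V).obj.left.left]
    [IsAffine (EtOver.prodObj V (EtOver.prodObj V V)).obj.left.left] (h : LH hf Q V) (hh : h ≠ 0) :
    ∃ l : LH hf Q V, l ≠ 0 ∧
      bmap haff (EtOver.prodFst V V) l = bmap haff (EtOver.prodSnd V V) l := by
  haveI := isAffine_top (T := T)
  haveI := WeakAssEtLib.isAffine_bcObj hf haff V ‹_›
  haveI : Module.Flat (FT₀ T) (Fn (EtOver.bcObj hf V)) := flat_fmap (Serre.toTop _)
  let R := EtOver.prodObj V V
  obtain ⟨z, hz⟩ := (bijective_phi haff hQ hFP hfin V).2 (bmap haff (EtOver.prodFst V V) h)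
  obtain ⟨δ, hδ, -⟩ := Serre.exists_prod_lift (𝟙 V) (𝟙 V)
  have hz0 : z ≠ 0 := by
    rintro rfl
    apply hh
    rw [← bmap_id haff h, ← hδ, bmap_comp haff (EtOver.prodFst V V) δ, ← hz, map_zero, map_zero]
  let d : (R ⟶ V) → (LH hf Q V →ₗ[FT₀ T] LH hf Q R) := fun p =>
    { toFun := bmap haff p, map_add' := map_add _, map_smul' := bmap_asmul haff p }
  let q1 := EtOver.prodFst V R
  let q2 := EtOver.prodSnd V R
  have step : ∀ p : R ⟶ V, phi haff R ((d p).lTensor (Fn (EtOver.bcObj hf V)) z) = bmap haff q1 h := by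
    intro p
    obtain ⟨m, hm1, hm2⟩ := Serre.exists_prod_lift q1 (q2 ≫ p)
    have key : ∀ w, phi haff R ((d p).lTensor (Fn (EtOver.bcObj hf V)) w) = bmap haff m (phi haff V w) := by
      intro w
      induction w using TensorProduct.induction_on with
      | zero => simp only [map_zero]
      | add x y hx hy => simp only [map_add, hx, hy]
      | tmul c l =>
        rw [LinearMap.lTensor_tmul, phi_tmul, phi_tmul, bmap_bsmul, ← bmap_comp, hm2, ← fmap_comp, ← bcMap_comp, hm1]
        exact congrArg (_ • ·) (bmap_comp haff p q2 l).symm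
    rw [key, hz, ← bmap_comp, hm1]
  obtain ⟨x, hx, he⟩ := exists_fixed_ne_zero (d (EtOver.prodFst V V)) (d (EtOver.prodSnd V V)) z hz0
    ((bijective_phi haff hQ hFP hfin R).1 ((step _).trans (step _).symm))
  exact ⟨x, hx, he⟩

end Desc

include hFP hfin in
/-- Non-zero sections give non-zero linear maps. -/
theorem exists_lh_ne_zero (hsurj : IsSurjectiveMor f) (q : sectModEt Q E) (hq : q ≠ 0) :
    ∃ h : LH hf Q E, h ≠ 0 := by
  haveI := WeakAssEtLib.isAffine_bcObj hf (isAffineMor_of_finite hfin) E ‹_›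
  haveI := isFinite_bcπ hf hfin E
  letI : Algebra (Fn E) (Fn (EtOver.bcObj hf E)) := (bcFun hf E).toAlgebra
  haveI : Module.Finite (Fn E) (Fn (EtOver.bcObj hf E)) :=
    RingHom.finite_algebraMap.1 ((HasAffineProperty.iff_of_isAffine (P := @IsFinite)).1 ‹_›).2
  haveI := surjective_bcπ hf hsurj E
  have hs : Function.Surjective (PrimeSpectrum.comap (algebraMap (Fn E) (Fn (EtOver.bcObj hf E)))) := fun p => by
    obtain ⟨e, rfl⟩ := E.obj.left.left.isoSpec.hom.surjective p
    obtain ⟨w, rfl⟩ := (EtOver.bcπ hf E).left.surjective e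
    exact ⟨(EtOver.bcObj hf E).obj.left.left.isoSpec.hom w,
      congrArg (fun φ : (EtOver.bcObj hf E).obj.left.left ⟶ Spec Γ(E.obj.left.left, ⊤) => φ w)
        (Scheme.isoSpec_hom_naturality (EtOver.bcπ hf E).left)⟩
  haveI := hFP E ‹_›
  haveI : Module.FinitePresentation (Fn E) (Fn (EtOver.bcObj hf E)) := Module.FinitePresentation.of_equiv (downEquiv hf E)
  obtain ⟨l, hl⟩ := exists_hom_ne_zero hs hq
  let down : sectModEt (pO hf) E →ₗ[Fn E] Fn (EtOver.bcObj hf E) :=
    { toFun := fun x => ULift.down x, map_add' := fun _ _ => rfl, map_smul' := fun _ _ => rfl }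
  refine ⟨l.comp down, fun h0 => hl (LinearMap.ext fun b => ?_)⟩
  exact congrArg (fun m : LH hf Q E => m.lin (Serre.osec (EtOver.bcObj hf E) b)) h0

include hQ hFP in
/-- Non-zero quasi-coherent modules receive non-zero maps from the direct image of functions. -/
theorem exists_hom_ne_zero_of_finite [QuasiSeparatedSpace ↥S] (hqs : IsQuasiSeparatedSp X) [IsAffine T.left]
    (hfin : IsFiniteMor f) (hsurj : IsSurjectiveMor f) {V : EtOver X} [IsAffine V.obj.left.left]
    (hV : RepWith @Surjective V.obj.hom) (hne : ¬IsZero Q) :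
    ∃ φ : pO hf ⟶ Q, φ ≠ 0 := by
  classical
  have haff' := isAffineMor_of_finite hfin
  obtain ⟨q, hq⟩ : ∃ q : sectModEt Q V, q ≠ 0 := by
    by_contra hq
    push_neg at hq
    refine hne ((IsZero.iff_id_eq_zero _).2 ?_)
    ext E s
    exact Serre.eq_zero_of_atlas hqs hV hQ hq E.unop s
  obtain ⟨h, hh⟩ := exists_lh_ne_zero (hf := hf) hFP hfin hsurj q hq
  haveI := isAffine_prod hf hfin hsurj V V
  haveI := isAffine_prod hf hfin hsurj V (EtOver.prodObj V V)
  obtain ⟨l, hl, hle⟩ := exists_desc haff' hQ hFP hfin h hh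
  have hG := bcAll_push hf haff' (Serre.bcAll_unit (X := (yon S).obj T))
  obtain ⟨E₀, hE₀⟩ := (finite_push hf hfin Serre.bcAll_unit ft_unit V).fg_top
  obtain ⟨ψ, hψ⟩ := exists_hom hG l.lin
    (fun W hW c => haveI := hW; (bmap haff' c l).lin)
    (fun W hW c e => haveI := hW; bmap_spec haff' c l e)
    hV (n := 1) (fun _ => EtOver.prodObj V V) (fun _ => 𝟙 _) (fun _ => ‹_›)
    (fun x => ⟨0, x, rfl⟩) E₀ hE₀
    (fun _ e _ => by
      simp only [Category.id_comp]
      rw [← hle]
      exact bmap_spec haff' _ l e) hqs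
  refine ⟨ψ, fun h0 => hl (LH.ext fun x => ?_)⟩
  have := hψ V ‹_› (𝟙 V) x
  rw [h0] at this
  show l.lin x = 0
  rw [← bmap_id haff' l, ← this]
  rfl

end Groth.Agent.EtQC.Chev
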