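import Groth.Agent.EtQC.Chev.Gen
import Groth.Agent.AlgSpDec.LimScheme
import Groth.Agent.AlgSpVal.ExistUC
import Groth.Agent.Pi1Ext.SpreadLim

/-!
# A space which is a scheme over a local ring of the base is a scheme over a neighbourhood
-/

set_option autoImplicit false
set_option backward.isDefEq.respectTransparency false
set_option backward.isDefEq.respectTransparency.types false

universe u

set_option maxHeartbeats 1000000

open CategoryTheory CategoryTheory.Limits AlgebraicGeometry Opposite AlgSp
open Groth.Agent.AlgSpBase Groth.Agent.AlgSpLib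

namespace Groth.Agent.EtQC.Chev.LocalBase

variable {S S' : Scheme.{u}} (g : S ⟶ S')

theorem isQuasiSeparatedMor_jsh {F G : Sp S} {f : F ⟶ G} (hf : IsQuasiSeparatedMor f) :
    IsQuasiSeparatedMor ((jsh g).map f) := by
  have sq := jsh_map_isPullback g (IsPullback.of_hasPullback f f)
  have h : (jsh g).map (pullback.diagonal f) ≫ sq.isoPullback.hom = pullback.diagonal ((jsh g).map f) := by
    apply pullback.hom_ext
    · rw [Category.assoc, IsPullback.isoPullback_hom_fst, ← Functor.map_comp, pullback.diagonal_fst,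
        CategoryTheory.Functor.map_id, pullback.diagonal_fst]
    · rw [Category.assoc, IsPullback.isoPullback_hom_snd, ← Functor.map_comp, pullback.diagonal_snd,
        CategoryTheory.Functor.map_id, pullback.diagonal_snd]
  show RepWith @QuasiCompact _
  rw [← h]
  exact repWith_comp ((repWith_jsh_iff g _).2 hf) (repWith_of_isIso _ _)

theorem isQuasiCompactSp_jsh {F : Sp S} (hF : IsAlgSpace F) (hqc : IsQuasiCompactSp F) :
    IsQuasiCompactSp ((jsh g).obj F) := by
  obtain ⟨U, φ, hU, he, hs⟩ := AlgSpLib.CartierRegular.exists_affine_atlas hF hqc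
  haveI : IsAffine ((Over.map g).obj U).left := hU
  let f : (yon S').obj ((Over.map g).obj U) ⟶ (jsh g).obj F := (jshYonIso g U).hom ≫ (jsh g).map φ
  have hfs : RepWith @Surjective f := repWith_comp (repWith_of_isIso _ _) ((repWith_jsh_iff g φ).2 hs)
  have hsurj : IsSurjectiveMor f := (repWith_surjective_iff hfs.rep).1 hfs
  haveI : CompactSpace (Points ((yon S').obj ((Over.map g).obj U))) := (Points.schemeHomeo _).compactSpace
  refine (AlgSpPts.isQuasiCompactSp_iff (isAlgSpace_jsh g hF)).2 ⟨?_⟩
  rw [← Set.range_eq_univ.2 hsurj]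
  exact isCompact_range (Points.continuous_map f)

/-- Representability descends from the extension to a smaller base. -/
theorem isRepresentable_of_jsh (Y : Space S) (h : ((jsh g).obj Y.obj).obj.IsRepresentable) :
    Y.obj.obj.IsRepresentable := by
  obtain ⟨T', ⟨r⟩⟩ := h.has_representation
  let e := AlgSp.isoOfRepresentableBy r
  obtain ⟨k, hk⟩ := (yon S').map_surjective (e.hom ≫ jproj g Y.obj)
  let T'' : Over S := Over.mk k.left
  let c : (Over.map g).obj T'' ≅ T' := Over.isoMk (Iso.refl _) ((Category.id_comp _).trans (Over.w k).symm)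
  let α : (jsh g).obj ((yon S).obj T'') ≅ (jsh g).obj Y.obj := (jshYonIso g T'').symm ≪≫ (yon S').mapIso c ≪≫ e
  have hα : α.hom ≫ jproj g Y.obj = jproj g ((yon S).obj T'') := by
    simp only [α, Iso.trans_hom, Iso.symm_hom, Category.assoc, Functor.mapIso_hom]
    rw [← hk, ← Functor.map_comp, Iso.inv_comp_eq, jshYonIso_jproj]
    exact congrArg (yon S').map (Over.OverMorphism.ext (Category.id_comp _))
  let A : Space S := ⟨(yon S).obj T'', IsAlgSpace.yon_obj T''⟩
  let β : (spaceFunctor g).obj A ≅ (spaceFunctor g).obj Y :=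
    Over.isoMk (ObjectProperty.isoMk _ α) (ObjectProperty.hom_ext _ hα)
  exact AlgSpDec.isRepresentable_of_iso ((ObjectProperty.ι _).mapIso ((spaceFunctor g).preimageIso β))

theorem isRepresentable_jsh {F : Sp S} (h : F.obj.IsRepresentable) : ((jsh g).obj F).obj.IsRepresentable := by
  obtain ⟨T, ⟨r⟩⟩ := h.has_representation
  exact AlgSpDec.isRepresentable_of_iso (jshYonIso g T ≪≫ (jsh g).mapIso (AlgSp.isoOfRepresentableBy r))

variable [IsAffine S']

/-- The stages of the local ring. -/
noncomputable def stages (s : ↥S) : Pi1Ext.SpreadLim.Nbhd S s ⥤ Over S where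
  obj W := Over.mk (Pi1Ext.SpreadLim.toX S s W)
  map h := Over.homMk ((Pi1Ext.SpreadLim.specs S s).map h) (Pi1Ext.SpreadLim.map_toX S s h)
  map_id W := Over.OverMorphism.ext ((Pi1Ext.SpreadLim.specs S s).map_id W)
  map_comp h h' := Over.OverMorphism.ext ((Pi1Ext.SpreadLim.specs S s).map_comp h h')

/-- The cone of the local ring over its stages. -/
noncomputable def stagesCone (s : ↥S) : Cone (stages (S := S) s) where
  pt := Over.mk (S.fromSpecStalk s)
  π :=
    { app := fun W => Over.homMk ((Pi1Ext.SpreadLim.cone S s).π.app W) (Pi1Ext.SpreadLim.π_toX S s W)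
      naturality := fun W W' h => Over.OverMorphism.ext ((Pi1Ext.SpreadLim.cone S s).π.naturality h) }

include g in
theorem exists_nbhd_isRepresentable (X : Space S) (q : X.obj ⟶ (yon S).obj (Over.mk (𝟙 S)))
    (hqc : IsQuasiCompactMor q) (hqs : IsQuasiSeparatedMor q) (s : ↥S)
    (h : ∀ (P : Sp S) (fst : P ⟶ X.obj) (snd : P ⟶ (yon S).obj (Over.mk (S.fromSpecStalk s))),
      IsPullback fst snd q ((yon S).map (Over.homMk (S.fromSpecStalk s))) → P.obj.IsRepresentable) :
    ∃ W : Pi1Ext.SpreadLim.Nbhd S s, (pullback q ((yon S).map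
      (Over.homMk (Pi1Ext.SpreadLim.toX S s W) : (stages s).obj W ⟶ Over.mk (𝟙 S)))).obj.IsRepresentable := by
  let I := Pi1Ext.SpreadLim.Nbhd S s
  have : Nonempty I := inferInstance
  obtain ⟨W₁⟩ := this
  let t : ∀ W : I, (stages s).obj W ⟶ Over.mk (𝟙 S) := fun W => Over.homMk (Pi1Ext.SpreadLim.toX S s W)
  have ht : ∀ {W W' : I} (φ : W ⟶ W'), (stages s).map φ ≫ t W' = t W := fun φ =>
    Over.OverMorphism.ext (Pi1Ext.SpreadLim.map_toX S s φ)
  let σ : Over.mk (S.fromSpecStalk s) ⟶ Over.mk (𝟙 S) := Over.homMk (S.fromSpecStalk s)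
  have hσ : (stagesCone s).π.app W₁ ≫ t W₁ = σ := Over.OverMorphism.ext (Pi1Ext.SpreadLim.π_toX S s W₁)
  -- the system over `S'`
  let D : I ⥤ Sp S' := (stages s ⋙ Over.map g) ⋙ yon S'
  let c : Cone D := (yon S').mapCone ((Over.map g).mapCone (stagesCone s))
  have := IsCofiltered.isConnected I
  have hc : IsLimit c := isLimitOfPreserves (yon S') (isLimitOfReflects (Over.forget S') (Pi1Ext.SpreadLim.isLimit S s))
  have hDa : ∀ (i j : I) (φ : i ⟶ j), IsAffineMor (D.map φ) := fun i j φ =>
    AlgSpDec.isAffineMor_of_repWith (P := @IsAffineHom) le_rfl ((repWith_yon_map_iff _ _).2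
      (inferInstanceAs (IsAffineHom ((Pi1Ext.SpreadLim.specs S s).map φ))))
  -- the restriction of the space to the first neighbourhood
  let Z : I → Sp S := fun W => pullback q ((yon S).map (t W))
  let g₀ : (jsh g).obj (Z W₁) ⟶ D.obj W₁ :=
    (jsh g).map (pullback.snd q ((yon S).map (t W₁))) ≫ (jshYonIso g _).inv
  have sP : IsPullback (pullback.fst q ((yon S).map σ)) (pullback.snd q ((yon S).map σ)) q ((yon S).map σ) :=
    IsPullback.of_hasPullback _ _
  let pP : pullback q ((yon S).map σ) ⟶ Z W₁ :=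
    pullback.lift (pullback.fst _ _) (pullback.snd _ _ ≫ (yon S).map ((stagesCone s).π.app W₁))
      (by rw [Category.assoc, ← Functor.map_comp, hσ, pullback.condition])
  have sP₁ : IsPullback pP (pullback.snd q ((yon S).map σ)) (pullback.snd q ((yon S).map (t W₁)))
      ((yon S).map ((stagesCone s).π.app W₁)) := by
    refine IsPullback.of_right ?_ (by simp [pP]) (IsPullback.of_hasPullback q ((yon S).map (t W₁)))
    rw [← Functor.map_comp, hσ, show pP ≫ pullback.fst _ _ = pullback.fst q ((yon S).map σ) by simp [pP]]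
    exact sP
  have sX : IsPullback ((jsh g).map pP) ((jsh g).map (pullback.snd q ((yon S).map σ)) ≫ (jshYonIso g _).inv)
      g₀ (c.π.app W₁) :=
    (jsh_map_isPullback g sP₁).of_iso (Iso.refl _) (Iso.refl _) (jshYonIso g _).symm (jshYonIso g _).symm
      (by simp) (by simp) (by simp [g₀]) (by
        dsimp [c]
        rw [← cancel_mono (jshYonIso g _).hom, Category.assoc, Category.assoc, Iso.inv_hom_id, Category.comp_id]
        refine Eq.trans ?_ (congrArg ((jshYonIso g _).inv ≫ ·) (jshYonIso_natural g ((stagesCone s).π.app W₁)).symm)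
        exact (Iso.inv_hom_id_assoc _ _).symm)
  obtain ⟨E, cE, hcE, eE, u, p, squ, sqm⟩ := AlgSpDec.exists_pullback_system D c hc g₀ sX
  have hZA : ∀ W, IsAlgSpace (Z W) := fun W =>
    isAlgSpace_of_isPullback (IsPullback.of_hasPullback q ((yon S).map (t W))) X.property
      (IsAlgSpace.yon_obj _) (IsAlgSpace.yon_obj _)
  have hDA : ∀ W, IsAlgSpace (D.obj W) := fun W => IsAlgSpace.yon_obj _
  -- the stages are the restrictions
  have hk : ∀ o : Over W₁, ∃ e : (jsh g).obj (Z o.left) ≅ E.obj o,
      e.hom ≫ p o = (jsh g).map (pullback.snd q ((yon S).map (t o.left))) ≫ (jshYonIso g _).inv := fun o => by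
    let z : Z o.left ⟶ Z W₁ := pullback.lift (pullback.fst _ _) (pullback.snd _ _ ≫ (yon S).map ((stages s).map o.hom))
      (by rw [Category.assoc, ← Functor.map_comp, ht, pullback.condition])
    have sz : IsPullback z (pullback.snd q ((yon S).map (t o.left))) (pullback.snd q ((yon S).map (t W₁)))
        ((yon S).map ((stages s).map o.hom)) := by
      refine IsPullback.of_right ?_ (by simp [z]) (IsPullback.of_hasPullback q ((yon S).map (t W₁)))
      rw [← Functor.map_comp, ht, show z ≫ pullback.fst _ _ = pullback.fst q ((yon S).map (t o.left)) by simp [z]]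
      exact IsPullback.of_hasPullback _ _
    have sj : IsPullback ((jsh g).map z) ((jsh g).map (pullback.snd q ((yon S).map (t o.left))) ≫ (jshYonIso g _).inv)
        g₀ (D.map o.hom) :=
      (jsh_map_isPullback g sz).of_iso (Iso.refl _) (Iso.refl _) (jshYonIso g _).symm (jshYonIso g _).symm
        (by simp) (by simp) (by simp [g₀]) (by
          dsimp [D]
          rw [← cancel_mono (jshYonIso g _).hom, Category.assoc, Category.assoc, Iso.inv_hom_id, Category.comp_id]
          refine Eq.trans ?_ (congrArg ((jshYonIso g _).inv ≫ ·) (jshYonIso_natural g ((stages s).map o.hom)).symm)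
          exact (Iso.inv_hom_id_assoc _ _).symm)
    exact ⟨sj.isoIsPullback _ _ (squ o), sj.isoIsPullback_hom_snd _ _ (squ o)⟩
  choose e he using hk
  have hq' : IsQuasiSeparatedMor q := hqs
  haveI : ∀ W : I, IsAffine ((Over.map g).obj ((stages s).obj W)).left := fun W =>
    inferInstanceAs (IsAffine (Spec _))
  have hEqs : ∀ o, IsQuasiSeparatedSp (E.obj o) := fun o => by
    refine AlgSpVal.isQuasiSeparatedSp_of_toAffine (T := (Over.map g).obj ((stages s).obj o.left)) (p o) ?_
    have h1 : p o = (e o).inv ≫ (jsh g).map (pullback.snd q ((yon S).map (t o.left))) ≫ (jshYonIso g _).inv :=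
      (Iso.eq_inv_comp _).2 (he o)
    rw [h1]
    exact AlgSpPts.isQuasiSeparatedMor_comp (repWith_of_isIso _ _) (AlgSpPts.isQuasiSeparatedMor_comp
      (isQuasiSeparatedMor_jsh g (AlgSpPts.isQuasiSeparatedMor_of_isPullback (IsPullback.of_hasPullback _ _) hqs))
      (repWith_of_isIso _ _))
  have hZqc : ∀ W, IsQuasiCompactSp (Z W) := fun W => by
    haveI : IsAffine ((stages s).obj W).left := inferInstanceAs (IsAffine (Spec _))
    exact hqc (IsAlgSpace.yon_obj _) ((AlgSpPts.isQuasiCompactSp_yon_iff _).2 inferInstance) ((yon S).map (t W)) _ _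
      (IsPullback.of_hasPullback q ((yon S).map (t W)))
  obtain ⟨o, ho⟩ := AlgSpDec.exists_isRepresentable_stage E
    (fun o => isAlgSpace_of_isPullback (squ o) (isAlgSpace_jsh g (hZA W₁)) (hDA o.left) (hDA W₁))
    (fun o o' φ => isAffineMor_of_isPullback (sqm φ) (hDa _ _ φ.left))
    (fun o => AlgSpDec.isQuasiCompactSp_of_affine (isAlgSpace_jsh g (hZA o.left)) (e o).inv (repWith_of_isIso _ _)
      (isQuasiCompactSp_jsh g (hZA o.left) (hZqc o.left)))
    hEqs cE hcE
    (
      (AlgSp.isoOfRepresentableBy (isRepresentable_jsh g (h _ _ _ sP)).has_representation.choose_spec.some) ≪≫ eE.symm)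
  exact ⟨o.left, isRepresentable_of_jsh g ⟨_, hZA o.left⟩ (AlgSpDec.isRepresentable_of_iso
    (AlgSp.isoOfRepresentableBy ho.has_representation.choose_spec.some ≪≫ (e o).symm))⟩

end Groth.Agent.EtQC.Chev.LocalBase
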