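import Groth.Agent.EtQC.Chev.Hom
import Groth.Agent.EtQC.Leray
import Groth.Agent.EtQC.Subobj
import Groth.Agent.EtQC.UnionFT
import Groth.Agent.EtQC.Glob.Bound

/-!
# Chevalley's theorem: vanishing of cohomology under an affine finite cover
-/

set_option autoImplicit false
set_option backward.isDefEq.respectTransparency false
set_option backward.isDefEq.respectTransparency.types false

universe u

set_option maxHeartbeats 800000

open CategoryTheory CategoryTheory.Limits AlgebraicGeometry Opposite Abelian AlgSp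
open Groth.Agent.EtQC.Glob

namespace Groth.Agent.EtQC.Chev

variable {S : Scheme.{u}} {X : Sp S}

theorem bcAll_of_iso {A B : ModEt X} (e : A ≅ B) (hA : BCAll A) : BCAll B := by
  let T := ShortComplex.mk e.inv (0 : A ⟶ A) comp_zero
  haveI : Mono T.f := inferInstanceAs (Mono e.inv)
  exact bcAll_left (T := T) ((ShortComplex.exact_iff_epi _ rfl).2 (inferInstanceAs (Epi e.inv))) hA hA

theorem subsingleton_of_iso {A B : ModEt X} (e : A ≅ B) (q : ℕ) (hA : Subsingleton (HModEt X A q)) :
    Subsingleton (HModEt X B q) := by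
  refine subsingleton_of_forall_eq 0 fun x => ?_
  have h : (x : Ext (zc X) ((toAbEt X).obj B) q) =
      (x.comp (Ext.mk₀ ((toAbEt X).map e.inv)) (add_zero q)).comp (Ext.mk₀ ((toAbEt X).map e.hom)) (add_zero q) := by
    rw [Ext.comp_assoc_of_second_deg_zero, Ext.mk₀_comp_mk₀, ← Functor.map_comp, e.inv_hom_id,
      CategoryTheory.Functor.map_id, Ext.comp_mk₀_id]
  rw [h, Subsingleton.elim (α := Ext (zc X) ((toAbEt X).obj A) q) (x.comp _ (add_zero q)) 0, Ext.zero_comp]

/-- Vanishing for both ends gives vanishing for the middle. -/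
theorem subsingleton_middle {T : ShortComplex (ModEt X)} (hT : T.ShortExact) (q : ℕ)
    (h1 : Subsingleton (HModEt X T.X₁ q)) (h3 : Subsingleton (HModEt X T.X₃ q)) :
    Subsingleton (HModEt X T.X₂ q) := by
  have hT' : (T.map (toAbEt X)).ShortExact := hT.map_of_exact (toAbEt X)
  refine subsingleton_of_forall_eq 0 fun x => ?_
  obtain ⟨y, hy⟩ := Ext.covariant_sequence_exact₂ (zc X) hT' x
    (Subsingleton.elim (α := Ext (zc X) ((toAbEt X).obj T.X₃) q) _ _)
  rw [← hy, Subsingleton.elim (α := Ext (zc X) ((toAbEt X).obj T.X₁) q) y 0, Ext.zero_comp]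

/-- Vanishing for the middle and, one degree up, for the left gives vanishing for the right. -/
theorem subsingleton_right {T : ShortComplex (ModEt X)} (hT : T.ShortExact) (q : ℕ)
    (h1 : Subsingleton (HModEt X T.X₁ (q + 1))) (h2 : Subsingleton (HModEt X T.X₂ q)) :
    Subsingleton (HModEt X T.X₃ q) := by
  have hT' : (T.map (toAbEt X)).ShortExact := hT.map_of_exact (toAbEt X)
  refine subsingleton_of_forall_eq 0 fun x => ?_
  obtain ⟨y, hy⟩ := Ext.covariant_sequence_exact₃ (zc X) hT' x (rfl : q + 1 = q + 1)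
    (Subsingleton.elim (α := Ext (zc X) ((toAbEt X).obj T.X₁) (q + 1)) _ _)
  rw [← hy, Subsingleton.elim (α := Ext (zc X) ((toAbEt X).obj T.X₂) q) y 0, Ext.zero_comp]

section Abelian

variable {C : Type*} [Category C] [Abelian C] {A B : C}

theorem kernel_ι_factorThruImage (φ : A ⟶ B) : kernel.ι φ ≫ Abelian.factorThruImage φ = 0 := by
  rw [← cancel_mono (Abelian.image.ι φ), Category.assoc, Abelian.image.fac, kernel.condition, zero_comp]

/-- Kernel, source and image form a short exact sequence. -/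
theorem shortExact_image (φ : A ⟶ B) : (ShortComplex.mk _ _ (kernel_ι_factorThruImage φ)).ShortExact :=
  { exact := ShortComplex.exact_of_f_is_kernel _ (KernelFork.IsLimit.ofι' _ _ fun {W} k hk =>
      ⟨kernel.lift φ k (show k ≫ φ = 0 by
        conv_lhs => rw [← Abelian.image.fac φ, ← Category.assoc]
        rw [show k ≫ Abelian.factorThruImage φ = 0 from hk, zero_comp]), kernel.lift_ι _ _ _⟩)
    mono_f := inferInstanceAs (Mono (kernel.ι φ))
    epi_g := inferInstanceAs (Epi (Abelian.factorThruImage φ)) }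

/-- The preimage of a subobject of a quotient. -/
theorem exists_preimage {P M I : C} (a : P ⟶ M) [Mono a] (ι : I ⟶ cokernel a) [Mono ι] (hι : ι ≠ 0) :
    ∃ (P' : C) (b : P' ⟶ M) (a' : P ⟶ P') (g : P' ⟶ I) (w : a' ≫ g = 0), Mono b ∧ a' ≫ b = a ∧
      (ShortComplex.mk a' g w).ShortExact ∧ ¬∃ c : P' ⟶ P, c ≫ a = b := by
  let π := cokernel.π a
  let a' : P ⟶ pullback π ι := pullback.lift a 0 (by rw [cokernel.condition, zero_comp])
  haveI : Mono a' := mono_of_mono_fac (pullback.lift_fst a 0 _)
  refine ⟨pullback π ι, pullback.fst π ι, a', pullback.snd π ι, pullback.lift_snd _ _ _, inferInstance,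
    pullback.lift_fst _ _ _, ?_, ?_⟩
  · exact
    { exact := ShortComplex.exact_of_f_is_kernel _ (KernelFork.IsLimit.ofι' a' _ fun {W} k hk => by
        change k ≫ pullback.snd π ι = 0 at hk
        refine ⟨Abelian.monoLift a (k ≫ pullback.fst π ι)
          (by rw [Category.assoc, pullback.condition, ← Category.assoc, hk, zero_comp]), ?_⟩
        apply pullback.hom_ext
        · rw [Category.assoc, pullback.lift_fst, Abelian.monoLift_comp]
        · rw [Category.assoc, pullback.lift_snd, comp_zero]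
          exact hk.symm)
      mono_f := inferInstanceAs (Mono a')
      epi_g := inferInstanceAs (Epi (pullback.snd π ι)) }
  · rintro ⟨c, hc⟩
    have h1 : pullback.snd π ι ≫ ι = 0 := by
      rw [← pullback.condition, ← hc, Category.assoc, cokernel.condition, comp_zero]
    exact hι ((cancel_epi (pullback.snd π ι)).1 (h1.trans comp_zero.symm))

theorem image_ι_ne_zero {φ : A ⟶ B} (h : φ ≠ 0) : Abelian.image.ι φ ≠ 0 := fun h0 =>
  h (by rw [← Abelian.image.fac φ, h0, comp_zero])

end Abelian

variable [QuasiSeparatedSpace ↥S] (hA : IsAlgSpace X) (hqc : IsQuasiCompactSp X) (hqs : IsQuasiSeparatedSp X)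
  {T : Over S} [IsAffine T.left] {f : (yon S).obj T ⟶ X} (hf : Representable f) (hFP : FPPush hf)
  (hfin : IsFiniteMor f) (hsurj : IsSurjectiveMor f)

include hA hfin in
theorem subsingleton_pO (q : ℕ) (hq : 0 < q) : Subsingleton (HModEt X (pO hf) q) := by
  have hb := Serre.bcAll_unit (X := (yon S).obj T)
  obtain ⟨e⟩ := nonempty_HEt_push hf hA ((toAbEt _).obj (Serre.oX ((yon S).obj T)))
    (isRightAcyclic_push_affine hf (isAffineMor_of_finite hfin) _ (isAffAcyclic_of_bcAll hb)) q
  exact @Equiv.subsingleton _ _ e.toEquiv.symm (subsingleton_HModEt_affine hb ‹_› (Iso.refl _) q hq)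

variable {V : EtOver X} [IsAffine V.obj.left.left] (hV : RepWith @Surjective V.obj.hom) (q : ℕ)
  (hP : ∀ N : ModEt X, BCAll N → Subsingleton (HModEt X N (q + 1)))

include hA hqs hf hFP hfin hsurj hV hP in
/-- A proper acyclic submodule extends to a larger one. -/
theorem exists_larger (hq : 0 < q) {N M : ModEt X} (hM : BCAll M) (j : N ⟶ M) [Mono j] (hNb : BCAll N)
    (hNq : Subsingleton (HModEt X N q)) (hne : ¬IsZero (cokernel j)) :
    ∃ (P' : ModEt X) (b : P' ⟶ M), Mono b ∧ BCAll P' ∧ Subsingleton (HModEt X P' q) ∧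
      ¬∃ c : P' ⟶ N, c ≫ j = b := by
  have hQ : BCAll (cokernel j) := bcAll_cokernel _ hNb hM
  obtain ⟨φ, hφ⟩ := exists_hom_ne_zero_of_finite (hf := hf) hQ hFP hqs hfin hsurj hV hne
  have hKb := bcAll_push hf (isAffineMor_of_finite hfin) (Serre.bcAll_unit (X := (yon S).obj T))
  have hTk := shortExact_image φ
  haveI := hTk.mono_f
  have hkb : BCAll (kernel φ) := bcAll_kernel φ hKb hQ
  have hI : BCAll (Abelian.image φ) := bcAll_right hTk hkb hKb
  have hIq : Subsingleton (HModEt X (Abelian.image φ) q) :=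
    subsingleton_right hTk q (hP _ hkb) (subsingleton_pO hA hf hfin q hq)
  obtain ⟨P', b, a', g, w, hb, hab, hTp, hnot⟩ :=
    exists_preimage j (Abelian.image.ι φ) (image_ι_ne_zero hφ)
  exact ⟨P', b, hb, bcAll_middle hTp hNb hI, subsingleton_middle hTp q hNq hIq, hnot⟩

/-- The submodules on the atlas of acyclic submodules. -/
def Good {M : ModEt X} (V : EtOver X) (q : ℕ) (N : Submodule (Fn V) (sectModEt M V)) : Prop :=
  ∃ (H : ModEt X) (j : H ⟶ M), Mono j ∧ BCAll H ∧ Subsingleton (HModEt X H q) ∧ LinearMap.range (app j V) = N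

omit [QuasiSeparatedSpace ↥S] in
theorem range_le_of_comp {A B M : ModEt X} {a : A ⟶ M} {b : B ⟶ M} (c : A ⟶ B) (h : c ≫ b = a) (W : EtOver X) :
    LinearMap.range (app a W) ≤ LinearMap.range (app b W) := by
  rintro _ ⟨y, rfl⟩
  exact ⟨app c W y, (app_comp' c b W y).symm.trans (congrArg (fun m => app m W y) h)⟩

include hV hqs in
/-- Comparing images on the atlas compares submodules. -/
theorem exists_factor_of_range {A B M : ModEt X} (a : A ⟶ M) (b : B ⟶ M) [Mono b] (hAb : BCAll A) (hBb : BCAll B)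
    (hM : BCAll M) (h : LinearMap.range (app a V) ≤ LinearMap.range (app b V)) : ∃ m : A ⟶ B, m ≫ b = a := by
  refine exists_factor b a fun W hW s => ?_
  haveI := hW
  rw [← FPres.mem_range_iff b hBb hM]
  obtain ⟨n, P, u, v, hP, -, hc⟩ := exists_pieces V hqs W
  refine ext_of_cover (cokernel b) P u (hc hV) fun i => ?_
  haveI := hP i
  rw [map_zero, ← app_res, ← app_res]
  generalize res A (u i) s = s'
  have hs := FPres.mem_span_res hAb (v i) s'
  induction hs using Submodule.span_induction with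
  | mem y hy =>
    obtain ⟨x, rfl⟩ := hy
    obtain ⟨z, hz⟩ := LinearMap.mem_range.1 (h (LinearMap.mem_range_self _ x))
    rw [app_res, app_res, (FPres.mem_range_iff b hBb hM V _).2 ⟨z, hz⟩, map_zero]
  | zero => simp only [map_zero]
  | add x y _ _ hx hy => rw [map_add, map_add, hx, hy, add_zero]
  | smul r x _ hx => rw [map_smul, map_smul, hx, smul_zero]

include hP in
theorem good_sup {M : ModEt X} (hM : BCAll M) {N N' : Submodule (Fn V) (sectModEt M V)} (hN : Good V q N)
    (hN' : Good V q N') : ∃ N'', Good V q N'' ∧ N ≤ N'' ∧ N' ≤ N'' := by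
  obtain ⟨H, j, hj, hH, hHq, rfl⟩ := hN
  obtain ⟨H', j', hj', hH', hHq', rfl⟩ := hN'
  let φ : H ⊞ H' ⟶ M := biprod.desc j j'
  have hb := Serre.bcAll_biprod hH hH'
  have hs : Subsingleton (HModEt X (H ⊞ H') q) :=
    subsingleton_middle (ShortComplex.Splitting.ofHasBinaryBiproduct H H').shortExact q hHq hHq'
  have hTk := shortExact_image φ
  have hkb : BCAll (kernel φ) := bcAll_kernel φ hb hM
  refine ⟨_, ⟨Abelian.image φ, Abelian.image.ι φ, inferInstance, bcAll_right hTk hkb hb,
    subsingleton_right hTk q (hP _ hkb) hs, rfl⟩, ?_, ?_⟩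
  · exact range_le_of_comp (biprod.inl ≫ Abelian.factorThruImage φ)
      (by rw [Category.assoc, Abelian.image.fac, biprod.inl_desc]) V
  · exact range_le_of_comp (biprod.inr ≫ Abelian.factorThruImage φ)
      (by rw [Category.assoc, Abelian.image.fac, biprod.inr_desc]) V

include hA hqc hqs hf hFP hfin hsurj hV hP in
/-- Descending induction step. -/
theorem subsingleton_step (hq : 0 < q) (M : ModEt X) (hM : BCAll M) : Subsingleton (HModEt X M q) := by
  classical
  let ι := {N : Submodule (Fn V) (sectModEt M V) // Good V q N}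
  let N₀ : Submodule (Fn V) (sectModEt M V) := ⨆ N : ι, N.1
  haveI hzero : Nonempty ι := by
    have hz : IsZero (kernel (𝟙 M)) := (IsZero.iff_id_eq_zero _).2 <| (cancel_mono (kernel.ι (𝟙 M))).1 (by
      rw [zero_comp, Category.id_comp, ← Category.comp_id (kernel.ι (𝟙 M))]
      exact kernel.condition (𝟙 M))
    refine ⟨⟨_, kernel (𝟙 M), kernel.ι (𝟙 M), inferInstance, bcAll_kernel _ hM hM,
      subsingleton_of_forall_eq 0 fun x => ?_, rfl⟩⟩
    have h0 : ((toAbEt X).map (𝟙 (kernel (𝟙 M)))) = 0 := by rw [hz.eq_of_src (𝟙 _) 0, Functor.map_zero]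
    rw [CategoryTheory.Functor.map_id] at h0
    exact (Ext.comp_mk₀_id (x : Ext (zc X) _ q)).symm.trans (by rw [h0, Ext.mk₀_zero, Ext.comp_zero])
  haveI hdir : IsDirected ι (· ≤ ·) := ⟨fun a b => by
    obtain ⟨N, hN, h1, h2⟩ := good_sup q hP hM a.2 b.2
    exact ⟨⟨N, hN⟩, h1, h2⟩⟩
  let G := hull hM N₀
  have hG : BCAll G.mod := hull_bcAll hM N₀ hqs
  have hGV : ∀ y, app G.ι V y ∈ N₀ := fun y =>
    hull_le hM N₀ ((Set.ext_iff.1 (G.range_ι V ‹_›) _).1 ⟨y, rfl⟩)
  choose H j hj hH hHq hHr using fun i : ι => i.2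
  have hjN : ∀ i t, app (j i) V t ∈ N₀ := fun i t =>
    le_iSup (fun N : ι => N.1) i ((hHr i) ▸ LinearMap.mem_range_self _ t)
  choose l hl using fun i => exists_factor_hull hM (hH i) (j i) N₀ (hjN i)
  have hcomp : ∀ a b : ι, a ≤ b → ∃ m : H a ⟶ H b, m ≫ j b = j a := fun a b hab =>
    haveI := hj b
    exists_factor_of_range hqs hV (j a) (j b) (hH a) (hH b) hM ((hHr a).le.trans (le_trans hab (hHr b).ge))
  choose m hm using hcomp
  have hlm : ∀ a b (h : a ≤ b), m a b h ≫ l b = l a := fun a b h =>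
    (cancel_mono G.ι).1 (by rw [Category.assoc, hl, hl, hm])
  let D : ι ⥤ ModEt X :=
    { obj := H
      map := fun h => m _ _ (leOfHom h)
      map_id := fun a => haveI := hj a; (cancel_mono (j a)).1 (by rw [hm, Category.id_comp])
      map_comp := fun {a b c} g h => haveI := hj c; (cancel_mono (j c)).1 (by rw [Category.assoc, hm, hm, hm]) }
  let τ : D ⟶ (Functor.const ι).obj G.mod :=
    { app := l
      naturality := fun a b h => (hlm a b (leOfHom h)).trans (Category.comp_id _).symm }
  haveI : ∀ i, Mono (τ.app i) := fun i => haveI := hj i; mono_of_mono_fac (hl i)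
  have hstage : ∀ (W : EtOver X) [IsAffine W.obj.left.left] (b : W ⟶ V) (y : sectModEt M W),
      y ∈ Submodule.span (Fn W) (res M b '' (N₀ : Set (sectModEt M V))) →
        ∃ i, y ∈ LinearMap.range (app (j i) W) := fun W _ b y hy => by
    induction hy using Submodule.span_induction with
    | mem y hy =>
      obtain ⟨x, hx, rfl⟩ := hy
      obtain ⟨i, hi⟩ := (Submodule.mem_iSup_of_directed _
        (fun a c => (hdir.directed a c).imp fun k hk => ⟨hk.1, hk.2⟩)).1 hx
      obtain ⟨t, ht⟩ := LinearMap.mem_range.1 ((hHr i).symm ▸ hi)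
      exact ⟨i, res (H i) b t, (app_res (j i) b t).trans (congrArg (res M b) ht)⟩
    | zero => exact ⟨hzero.some, zero_mem _⟩
    | add x y _ _ hx hy =>
      obtain ⟨i, hi⟩ := hx
      obtain ⟨i', hi'⟩ := hy
      obtain ⟨k, hk, hk'⟩ := directed_of (· ≤ ·) i i'
      exact ⟨k, add_mem (range_le_of_comp _ (hm i k hk) W hi) (range_le_of_comp _ (hm i' k hk') W hi')⟩
    | smul r x _ hx =>
      obtain ⟨i, hi⟩ := hx
      exact ⟨i, Submodule.smul_mem _ r hi⟩
  obtain ⟨hc⟩ := isColimit_of_union D τ fun W hW s => by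
    haveI := hW
    obtain ⟨n, P, a, b, hPa, -, hcov⟩ := exists_pieces V hqs W
    choose i hi using fun k => haveI := hPa k; hstage (P k) (b k) _
      ((Set.ext_iff.1 (G.range_ι W hW) _).1 ⟨s, rfl⟩ (P k) (hPa k) (a k) (b k))
    obtain ⟨k, hk⟩ := Finite.exists_le i
    refine ⟨k, ?_⟩
    have h0 : app (cokernel.π (j k)) W (app G.ι W s) = 0 :=
      ext_of_cover (cokernel (j k)) P a (hcov hV) fun p => by
        haveI := hPa p
        rw [map_zero, ← app_res, FPres.mem_range_iff (j k) (hH k) hM]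
        exact LinearMap.mem_range.1 (range_le_of_comp _ (hm (i p) k (hk p)) (P p) (hi p))
    obtain ⟨t, ht⟩ := (FPres.mem_range_iff (j k) (hH k) hM W _).1 h0
    exact ⟨t, app_injective G.ι W (((app_comp' _ _ W t).symm.trans (congrArg (fun m => app m W t) (hl k))).trans ht)⟩
  haveI := Serre.preservesColimitsOfShape_toAbEt (X := X) ι
  have hc' := isColimitOfPreserves (toAbEt X) hc
  haveI := Glob.preservesColimitsOfShape_HEtF (X := X) hqc hqs (I := ι) q
  have hc'' := isColimitOfPreserves (HEtF X q) hc'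
  have hGq : Subsingleton (HModEt X G.mod q) := subsingleton_of_forall_eq 0 fun x => by
    obtain ⟨i, y, hy⟩ := Concrete.isColimit_exists_rep _ hc'' x
    exact hy.symm.trans ((congrArg _ (@Subsingleton.elim _ (hHq i) y 0)).trans (map_zero _))
  by_cases hzc : IsZero (cokernel G.ι)
  · haveI : Epi G.ι := Abelian.epi_of_cokernel_π_eq_zero _ (hzc.eq_of_tgt _ _)
    haveI : IsIso G.ι := isIso_of_mono_of_epi _
    exact subsingleton_of_iso (asIso G.ι) q hGq
  · exfalso
    obtain ⟨P', b, hb, hPb, hPq, hnot⟩ := exists_larger hA hqs hf hFP hfin hsurj hV q hP hq hM G.ι hG hGq hzc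
    have hle : LinearMap.range (app b V) ≤ N₀ :=
      le_iSup (fun N : ι => N.1) ⟨_, P', b, hb, hPb, hPq, rfl⟩
    exact hnot (exists_factor_hull hM hPb b N₀ fun t => hle (LinearMap.mem_range_self _ t))

omit hP in
include hA hqc hqs hf hFP hfin hsurj hV in
/-- Quasi-coherent modules are acyclic under an affine finitely presented finite cover. -/
theorem subsingleton_qcoh (hq : 0 < q) (M : ModEt X) (hM : BCAll M) : Subsingleton (HModEt X M q) := by
  obtain ⟨n, hn⟩ := Glob.exists_bound ⟨X, hA⟩ hqc hqs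
  induction h : n - q using Nat.strong_induction_on generalizing q M with
  | _ k ih =>
    by_cases hnq : n ≤ q
    · exact hn M hM.isQuasicoherent q hnq
    exact subsingleton_step hA hqc hqs hf hFP hfin hsurj hV q
      (fun N hN => ih (n - (q + 1)) (by omega) (q + 1) (by omega) N hN rfl) hq M hM

end Groth.Agent.EtQC.Chev
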