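import Groth.Agent.EtQC.Chev.LocalBase

/-!
# A space which is a scheme over a limit of affine schemes over the base is one over some stage
-/

set_option autoImplicit false
set_option backward.isDefEq.respectTransparency false
set_option backward.isDefEq.respectTransparency.types false

universe u

set_option maxHeartbeats 1000000

open CategoryTheory CategoryTheory.Limits AlgebraicGeometry Opposite AlgSp
open Groth.Agent.AlgSpLib

namespace Groth.Agent.EtQC.Chev.StageBase

variable {S : Scheme.{u}} [QuasiSeparatedSpace ↥S]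

theorem exists_stage_isRepresentable (X : Space S) (q : X.obj ⟶ (yon S).obj (Over.mk (𝟙 S)))
    (hqc : IsQuasiCompactMor q) (hqs : IsQuasiSeparatedMor q) {I : Type u} [SmallCategory I] [IsCofiltered I]
    (B : I ⥤ Over S) (hB : ∀ i, IsAffine (B.obj i).left) (cB : Cone B) (hcB : IsLimit cB)
    (h : (pullback q ((yon S).map (Over.mkIdTerminal.from cB.pt))).obj.IsRepresentable) :
    ∃ i, (pullback q ((yon S).map (Over.mkIdTerminal.from (B.obj i)))).obj.IsRepresentable := by
  obtain ⟨i₁⟩ := IsCofiltered.nonempty (C := I)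
  have := IsCofiltered.isConnected I
  let t : ∀ W : Over S, W ⟶ Over.mk (𝟙 S) := fun W => Over.mkIdTerminal.from W
  have ht : ∀ {W W' : Over S} (φ : W ⟶ W'), φ ≫ t W' = t W := fun _ => Over.mkIdTerminal.hom_ext _ _
  let D : I ⥤ Sp S := B ⋙ yon S
  have hc : IsLimit ((yon S).mapCone cB) := isLimitOfPreserves (yon S) hcB
  have : ∀ i, IsAffine (B.obj i).left := hB
  have hDa : ∀ (i j : I) (φ : i ⟶ j), IsAffineMor (D.map φ) := fun i j φ =>
    AlgSpDec.isAffineMor_of_repWith (P := @IsAffineHom) le_rfl ((repWith_yon_map_iff _ _).2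
      (inferInstance : IsAffineHom (B.map φ).left))
  let Z : Over S → Sp S := fun W => pullback q ((yon S).map (t W))
  have hZ : ∀ {W W' : Over S} (φ : W ⟶ W'), ∃ z : Z W ⟶ Z W',
      IsPullback z (pullback.snd q ((yon S).map (t W))) (pullback.snd q ((yon S).map (t W'))) ((yon S).map φ) := fun {W W'} φ => by
    let z : Z W ⟶ Z W' := pullback.lift (pullback.fst _ _) (pullback.snd _ _ ≫ (yon S).map φ)
      (by rw [Category.assoc, ← Functor.map_comp, ht, pullback.condition])
    refine ⟨z, IsPullback.of_right ?_ (by simp [z]) (IsPullback.of_hasPullback q ((yon S).map (t W')))⟩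
    rw [← Functor.map_comp, ht, show z ≫ pullback.fst _ _ = pullback.fst q ((yon S).map (t W)) by simp [z]]
    exact IsPullback.of_hasPullback _ _
  obtain ⟨z₀, sX⟩ := hZ (cB.π.app i₁)
  obtain ⟨E, cE, hcE, eE, u, p, squ, sqm⟩ := AlgSpDec.exists_pullback_system D ((yon S).mapCone cB) hc
    (pullback.snd q ((yon S).map (t (B.obj i₁)))) sX
  have hk : ∀ o : Over i₁, ∃ e : Z (B.obj o.left) ≅ E.obj o,
      e.hom ≫ p o = pullback.snd q ((yon S).map (t (B.obj o.left))) := fun o => by
    obtain ⟨z, sz⟩ := hZ (B.map o.hom)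
    exact ⟨sz.isoIsPullback _ _ (squ o), sz.isoIsPullback_hom_snd _ _ (squ o)⟩
  choose e he using hk
  have hZA : ∀ W, IsAlgSpace (Z W) := fun W =>
    isAlgSpace_of_isPullback (IsPullback.of_hasPullback q ((yon S).map (t W))) X.property
      (IsAlgSpace.yon_obj _) (IsAlgSpace.yon_obj _)
  have hDA : ∀ i, IsAlgSpace (D.obj i) := fun i => IsAlgSpace.yon_obj _
  have hEqs : ∀ o, IsQuasiSeparatedSp (E.obj o) := fun o => by
    refine AlgSpVal.isQuasiSeparatedSp_of_toAffine (T := B.obj o.left) (p o) ?_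
    have h1 : p o = (e o).inv ≫ pullback.snd q ((yon S).map (t (B.obj o.left))) := (Iso.eq_inv_comp _).2 (he o)
    rw [h1]
    exact AlgSpPts.isQuasiSeparatedMor_comp (repWith_of_isIso _ _)
      (AlgSpPts.isQuasiSeparatedMor_of_isPullback (IsPullback.of_hasPullback _ _) hqs)
  have hEqc : ∀ o, IsQuasiCompactSp (E.obj o) := fun o => by
    obtain ⟨z, sz⟩ := hZ (B.map o.hom)
    exact AlgSpDec.isQuasiCompactSp_of_affine (hZA (B.obj o.left)) (e o).inv (repWith_of_isIso _ _)
      (hqc (IsAlgSpace.yon_obj _) ((AlgSpPts.isQuasiCompactSp_yon_iff _).2 inferInstance)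
        ((yon S).map (t (B.obj o.left))) _ _ (IsPullback.of_hasPullback q _))
  obtain ⟨o, ho⟩ := AlgSpDec.exists_isRepresentable_stage E
    (fun o => isAlgSpace_of_isPullback (squ o) (hZA _) (hDA o.left) (hDA i₁))
    (fun o o' φ => isAffineMor_of_isPullback (sqm φ) (hDa _ _ φ.left))
    hEqc hEqs cE hcE (AlgSp.isoOfRepresentableBy h.has_representation.choose_spec.some ≪≫ eE.symm)
  exact ⟨o.left, AlgSpDec.isRepresentable_of_iso
    (AlgSp.isoOfRepresentableBy ho.has_representation.choose_spec.some ≪≫ (e o).symm)⟩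

end Groth.Agent.EtQC.Chev.StageBase
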