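import Groth.Agent.EtQC.Chev.Gen
import Groth.Agent.AlgSpDec.LimScheme
import Groth.Agent.AlgSpDec.SchImage
import Groth.Agent.AlgSpDec.MonoTfae
import Groth.Agent.SGA1Q.SigmaFinite

/-!
# A space which is the union of two closed subschemes
-/

set_option autoImplicit false
set_option backward.isDefEq.respectTransparency false
set_option backward.isDefEq.respectTransparency.types false

universe u

set_option maxHeartbeats 1000000

open CategoryTheory CategoryTheory.Limits AlgebraicGeometry Opposite AlgSp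
open Groth.Agent.AlgSpLib Groth.Agent.AlgSpPts Groth.Agent.AlgSpDec

namespace Groth.Agent.EtQC.Chev.Union

variable {S : Scheme.{u}}

/-- A space covered by finitely many affine closed subschemes is an affine scheme. -/
theorem exists_iso_of_closed_cover (Y : Space S) {ι : Type u} [Finite ι] (D : ι → Over S)
    (hD : ∀ i, IsAffine (D i).left) (k : ∀ i, (yon S).obj (D i) ⟶ Y.obj)
    (hk : ∀ i, RepWith @IsClosedImmersion (k i)) (hc : ∀ y, ∃ i d, Points.ofPt (k i) d = y) :
    ∃ T : Over S, IsAffine T.left ∧ Nonempty ((yon S).obj T ≅ Y.obj) := by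
  obtain ⟨G, hG⟩ := exists_hom_sigma D k
  have : ∀ i, IsAffine (D i).left := hD
  haveI : IsAffine (sigmaOver D).left := inferInstanceAs (IsAffine (∐ fun i => (D i).left))
  have hGr : Representable G := representable_from_yon' Y.property G
  refine exists_iso_of_univClosed Y (T := sigmaOver D) G ⟨hGr, fun T V t fst snd sq => ?_⟩
    ((repWith_surjective_iff hGr).2 fun y => ?_)
  · have hi : ∀ i, ∃ (W : Over S) (a : W ⟶ V) (b : W ⟶ D i),
        IsClosedImmersion (a ≫ snd).left ∧ (yon S).map a ≫ fst = (yon S).map (b ≫ sigmaι D i) ∧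
        ∀ (Z : Over S) (z : Z ⟶ T) (d : Z ⟶ D i), (yon S).map d ≫ k i = (yon S).map z ≫ t →
          ∃ l : Z ⟶ W, l ≫ a ≫ snd = z ∧ l ≫ b = d := fun i => by
      have sqi := (hk i).rep.isPullback' t
      have hw : (yon S).map ((hk i).rep.fst' t ≫ sigmaι D i) ≫ G = (yon S).map ((hk i).rep.snd t) ≫ t := by
        rw [Functor.map_comp, Category.assoc, hG, sqi.w]
      obtain ⟨a, ha⟩ := (yon S).map_surjective (sq.lift _ _ hw)
      refine ⟨_, a, (hk i).rep.fst' t, ?_, by rw [ha, IsPullback.lift_fst], fun Z z d h => ?_⟩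
      · have : a ≫ snd = (hk i).rep.snd t := (yon S).map_injective (by
          rw [Functor.map_comp, ha, IsPullback.lift_snd])
        rw [this]
        exact (hk i).property_snd t
      · obtain ⟨l, hl⟩ := (yon S).map_surjective (sqi.lift _ _ h)
        refine ⟨l, (yon S).map_injective ?_, (yon S).map_injective ?_⟩
        · rw [Functor.map_comp, Functor.map_comp, ha, IsPullback.lift_snd, hl, IsPullback.lift_snd]
        · rw [Functor.map_comp, hl, IsPullback.lift_fst]
    choose W a b hW hab huniv using hi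
    let A : (∐ fun i => (W i).left) ⟶ V.left := Limits.Sigma.desc fun i => (a i).left
    have hAs : A ≫ snd.left = Limits.Sigma.desc fun i => (a i ≫ snd).left :=
      Limits.Sigma.hom_ext _ _ fun i => by
        erw [Limits.Sigma.ι_desc_assoc, Limits.Sigma.ι_desc]
        rfl
    haveI : IsIntegralHom (A ≫ snd.left) := by
      rw [hAs]; exact SGA1Q.isIntegralHom_sigmaDesc _ fun i => by haveI := hW i; infer_instance
    haveI : Surjective A := ⟨fun v => by
      obtain ⟨p, hp⟩ : ∃ p, Points.map fst (Points.ofScheme V v) = Points.ofScheme (sigmaOver D) p :=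
        ⟨_, ((Points.schemeHomeo _).apply_symm_apply _).symm⟩
      obtain ⟨i, d, hd⟩ := exists_sigmaι D p
      have h1 : Points.map fst (Points.ofScheme V v) = Points.map ((yon S).map (sigmaι D i)) (Points.ofScheme _ d) := by
        rw [hp, ← hd]
        exact (Points.map_yon_map_apply _ _).symm
      obtain ⟨Z, c, e, hce, z, hz, -⟩ : ∃ (Z : Over S) (c : Z ⟶ V) (e : Z ⟶ D i),
          (yon S).map c ≫ fst = (yon S).map (e ≫ sigmaι D i) ∧ ∃ z : ↥Z.left, c.left z = v ∧ True := by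
        obtain ⟨f₀, hf₀⟩ := (yon S).map_surjective fst
        rw [← hf₀] at h1 ⊢
        have h2 : f₀.left v = (sigmaι D i).left d := (Points.schemeHomeo (sigmaOver D)).injective
          (((Points.map_yon_map_apply f₀ v).symm.trans h1).trans (Points.map_yon_map_apply _ _))
        obtain ⟨z, hz1, -⟩ := Scheme.Pullback.exists_preimage_pullback v d h2
        let Z : Over S := Over.mk (pullback.fst f₀.left (sigmaι D i).left ≫ V.hom)
        let c : Z ⟶ V := Over.homMk (pullback.fst _ _) rfl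
        let e : Z ⟶ D i := Over.homMk (pullback.snd _ _) (by
          show _ ≫ (D i).hom = pullback.fst f₀.left (sigmaι D i).left ≫ V.hom
          rw [← Over.w f₀, pullback.condition_assoc, Over.w])
        refine ⟨Z, c, e, ?_, z, hz1, trivial⟩
        rw [← Functor.map_comp]
        exact congrArg (yon S).map (Over.OverMorphism.ext pullback.condition)
      obtain ⟨l, hl, hlb⟩ := huniv i Z (c ≫ snd) e (by
        rw [← hG i, ← Category.assoc, ← Functor.map_comp, ← hce, Category.assoc, sq.w, Functor.map_comp,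
          Category.assoc])
      refine ⟨(Limits.Sigma.ι (fun i => (W i).left) i) (l.left z), ?_⟩
      have hla : l ≫ a i = c := by
        refine (yon S).map_injective (sq.hom_ext ?_ ?_)
        · rw [Functor.map_comp, Category.assoc, hab, ← Functor.map_comp, ← Category.assoc, hlb, hce]
        · rw [← Functor.map_comp, ← Functor.map_comp, Category.assoc, hl]
      show (Limits.Sigma.ι _ i ≫ A) (l.left z) = v
      rw [Limits.Sigma.ι_desc, ← Scheme.Hom.comp_apply, ← Over.comp_left, hla]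
      exact hz⟩
    exact UniversallyClosed.of_comp_surjective A snd.left
  · obtain ⟨i, d, hd⟩ := hc y
    refine ⟨Points.ofScheme _ ((sigmaι D i).left d), ?_⟩
    rw [← hd, ← hG i, ← Points.ofPt_eq_map_ofScheme]
    exact (ofPt_comp _ _ _).symm

theorem ofPt_injective {X : Sp S} {T : Over S} {g : (yon S).obj T ⟶ X} (hg : RepWith @IsClosedImmersion g) :
    Function.Injective (Points.ofPt g) := fun a b h => by
  haveI : Mono g := mono_of_closedImmersion hg
  rw [Points.ofPt_eq_map_ofScheme, Points.ofPt_eq_map_ofScheme] at h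
  exact (Points.schemeHomeo T).injective (AlgSpDec.injective_map_of_mono h)

theorem isClosed_image_ofPt {X : Sp S} {T : Over S} {g : (yon S).obj T ⟶ X}
    (hg : RepWith @IsClosedImmersion g) {C : Set ↥T.left} (hC : IsClosed C) : IsClosed (Points.ofPt g '' C) := by
  have hu : RepWith @UniversallyClosed g :=
    repWith_mono (fun _ _ k (_ : IsClosedImmersion k) => (inferInstance : UniversallyClosed k)) _ hg
  have : Points.ofPt g '' C = Points.map g '' (Points.ofScheme T '' C) := by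
    rw [Set.image_image]
    exact Set.image_congr fun c _ => Points.ofPt_eq_map_ofScheme g c
  rw [this]
  exact AlgSpPts.isClosedMap_map hu _ ((Points.schemeHomeo T).isClosedMap _ hC)

/-- Compatible affine opens of two closed subschemes covering a space come from an affine open subspace. -/
theorem exists_affine_open_of_compatible (X : Space S) {T : Fin 2 → Over S}
    (g : ∀ i, (yon S).obj (T i) ⟶ X.obj) (hg : ∀ i, RepWith @IsClosedImmersion (g i))
    (hc : ∀ x, ∃ i t, Points.ofPt (g i) t = x) (D : ∀ i, (T i).left.Opens) (hD : ∀ i, IsAffineOpen (D i))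
    (hcomp : ∀ y z, Points.ofPt (g 0) y = Points.ofPt (g 1) z → (y ∈ D 0 ↔ z ∈ D 1)) :
    ∃ (R : Over S) (j : (yon S).obj R ⟶ X.obj), RepWith @IsOpenImmersion j ∧
      ∀ i t, t ∈ D i → Points.ofPt (g i) t ∈ Set.range (Points.ofPt j) := by
  let O : Set (Points X.obj) :=
    (Points.ofPt (g 0) '' ((D 0 : Set ↥(T 0).left))ᶜ ∪ Points.ofPt (g 1) '' ((D 1 : Set ↥(T 1).left))ᶜ)ᶜ
  have hO : IsOpen O := ((isClosed_image_ofPt (hg 0) (D 0).isOpen.isClosed_compl).union
    (isClosed_image_ofPt (hg 1) (D 1).isOpen.isClosed_compl)).isOpen_compl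
  have hmem : ∀ i t, Points.ofPt (g i) t ∈ O ↔ t ∈ D i := by
    refine Fin.forall_fin_two.2 ⟨fun t => ⟨fun h => ?_, fun h => ?_⟩, fun t => ⟨fun h => ?_, fun h => ?_⟩⟩
    · by_contra ht; exact h (Or.inl ⟨t, ht, rfl⟩)
    · rintro (⟨y, hy, e⟩ | ⟨z, hz, e⟩)
      · exact hy ((ofPt_injective (hg 0) e) ▸ h)
      · exact hz ((hcomp t z e.symm).1 h)
    · by_contra ht; exact h (Or.inr ⟨t, ht, rfl⟩)
    · rintro (⟨y, hy, e⟩ | ⟨z, hz, e⟩)
      · exact hy ((hcomp y t e).2 h)
      · exact hz ((ofPt_injective (hg 1) e) ▸ h)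
  obtain ⟨Y', j, hY', hj, hr⟩ := AlgSpPts.exists_open_subspace X.property hO
  let W := fun i => hj.rep.pullback (g i)
  let q : ∀ i, W i ⟶ T i := fun i => hj.rep.snd (g i)
  have sq : ∀ i, IsPullback (hj.rep.fst (g i)) ((yon S).map (q i)) j (g i) := fun i => hj.rep.isPullback (g i)
  have hqr : ∀ i, Set.range (q i).left = (D i : Set ↥(T i).left) := fun i => by
    refine Set.Subset.antisymm ?_ fun t ht => ?_
    · rintro _ ⟨w, rfl⟩
      refine (hmem i _).1 ?_
      rw [← ofPt_comp, ← (sq i).w, ← Points.map_ofPt, ← hr]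
      exact ⟨_, rfl⟩
    · obtain ⟨z, hz⟩ := hr.symm.subset ((hmem i t).2 ht)
      obtain ⟨v, -, hv⟩ := AlgSpPts.exists_lift (sq i) hz
      exact ⟨v, hv⟩
  have hWa : ∀ i, IsAffine (W i).left := fun i => by
    haveI : IsOpenImmersion (q i).left := hj.2 _ _ _ (sq i)
    haveI : IsAffine (D i).toScheme := hD i
    exact IsAffine.of_isIso (IsOpenImmersion.isoOfRangeEq (q i).left (D i).ι (by
      rw [Scheme.Opens.range_ι, hqr i])).hom
  obtain ⟨R, -, ⟨e⟩⟩ := exists_iso_of_closed_cover ⟨Y', hY'⟩ (ι := ULift.{u} (Fin 2)) (fun i => W i.down)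
    (fun i => hWa i.down) (fun i => hj.rep.fst (g i.down))
    (fun i => repWith_of_isPullback (sq i.down).flip (hg i.down)) (fun y => by
      obtain ⟨i, t, ht⟩ := hc (Points.map j y)
      obtain ⟨v, hv, -⟩ := AlgSpPts.exists_lift (sq i) ht.symm
      exact ⟨⟨i⟩, v, hv⟩)
  refine ⟨R, e.hom ≫ j, repWith_comp (repWith_of_isIso _ _) hj, fun i t ht => ?_⟩
  obtain ⟨z, hz⟩ := hr.symm.subset ((hmem i t).2 ht)
  obtain ⟨w, hw⟩ := (Points.schemeEquiv R).surjective (Points.map e.inv z)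
  refine ⟨w, ?_⟩
  rw [Points.ofPt_eq_map_ofScheme, show Points.ofScheme R w = Points.map e.inv z from hw, ← Points.map_comp,
    Iso.inv_hom_id_assoc, hz]

/-- Two closed immersions into a scheme have basic opens, through a given point, with the same preimage. -/
theorem exists_compatible_affine {P T₁ T₂ : Scheme.{u}} (a : P ⟶ T₁) (b : P ⟶ T₂) [IsClosedImmersion a]
    [IsClosedImmersion b] (p : P) :
    ∃ (D₁ : T₁.Opens) (D₂ : T₂.Opens), IsAffineOpen D₁ ∧ IsAffineOpen D₂ ∧ a p ∈ D₁ ∧ a ⁻¹ᵁ D₁ = b ⁻¹ᵁ D₂ := by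
  obtain ⟨U₁, hU₁, h₁, -⟩ := exists_isAffineOpen_mem_and_subset (U := (⊤ : T₁.Opens)) (x := a p) trivial
  obtain ⟨U₂, hU₂, h₂, -⟩ := exists_isAffineOpen_mem_and_subset (U := (⊤ : T₂.Opens)) (x := b p) trivial
  obtain ⟨f, f', hff', hpf⟩ := exists_basicOpen_le_affine_inter (hU₁.preimage a) (hU₂.preimage b) p ⟨h₁, h₂⟩
  obtain ⟨r, hr⟩ := a.app_surjective U₁ hU₁ f
  obtain ⟨r', hr'⟩ := b.app_surjective U₂ hU₂ f'
  refine ⟨T₁.basicOpen r, T₂.basicOpen r', hU₁.basicOpen r, hU₂.basicOpen r', ?_, ?_⟩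
  · show p ∈ a ⁻¹ᵁ T₁.basicOpen r
    rw [Scheme.preimage_basicOpen, hr]; exact hpf
  · rw [Scheme.preimage_basicOpen, Scheme.preimage_basicOpen, hr, hr', hff']

/-- A space which is the union of two closed subschemes is a scheme. -/
theorem isRepresentable_of_two_closed (X : Space S) {T : Fin 2 → Over S}
    (g : ∀ i, (yon S).obj (T i) ⟶ X.obj) (hg : ∀ i, RepWith @IsClosedImmersion (g i))
    (hc : ∀ x, ∃ i t, Points.ofPt (g i) t = x) : X.obj.obj.IsRepresentable := by
  classical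
  let q₂ := (hg 1).rep.snd (g 0)
  let q₁ := (hg 1).rep.fst' (g 0)
  have sq : IsPullback ((yon S).map q₁) ((yon S).map q₂) (g 1) (g 0) := (hg 1).rep.isPullback' (g 0)
  haveI : IsClosedImmersion q₂.left := (hg 1).property_snd (g 0)
  haveI : IsClosedImmersion q₁.left := (hg 0).2 _ _ _ sq.flip
  have hmeet : ∀ y z, Points.ofPt (g 0) y = Points.ofPt (g 1) z → ∃ p, q₂.left p = y ∧ q₁.left p = z := fun y z h => by
    rw [Points.ofPt_eq_map_ofScheme (g 1) z] at h
    obtain ⟨p, hp, hpy⟩ := AlgSpPts.exists_lift sq h.symm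
    rw [Points.ofPt_eq_map_ofScheme] at hp
    exact ⟨p, hpy, (Points.schemeHomeo _).injective ((Points.map_yon_map_apply q₁ p).symm.trans hp)⟩
  have hlocal : ∀ (a : Σ i, ↥(T i).left), ∃ (R : Over S) (j : (yon S).obj R ⟶ X.obj),
      RepWith @IsOpenImmersion j ∧ Points.ofPt (g a.1) a.2 ∈ Set.range (Points.ofPt j) := by
    rintro ⟨i, t⟩
    have key : ∃ D : ∀ i, (T i).left.Opens, (∀ i, IsAffineOpen (D i)) ∧
        (∀ y z, Points.ofPt (g 0) y = Points.ofPt (g 1) z → (y ∈ D 0 ↔ z ∈ D 1)) ∧ t ∈ D i := by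
      by_cases hp : ∃ p, (i = 0 ∧ HEq (q₂.left p) t) ∨ (i = 1 ∧ HEq (q₁.left p) t)
      · obtain ⟨p, hp⟩ := hp
        obtain ⟨D₁, D₂, hD₁, hD₂, hm, he⟩ := exists_compatible_affine q₂.left q₁.left p
        have hm' : p ∈ q₁.left ⁻¹ᵁ D₂ := he ▸ (hm : p ∈ q₂.left ⁻¹ᵁ D₁)
        refine ⟨Fin.cons D₁ (Fin.cons D₂ finZeroElim), Fin.forall_fin_two.2 ⟨hD₁, hD₂⟩, fun y z h => ?_, ?_⟩
        · obtain ⟨p', rfl, rfl⟩ := hmeet y z h
          exact ⟨fun h => (he ▸ (h : p' ∈ q₂.left ⁻¹ᵁ D₁) : p' ∈ q₁.left ⁻¹ᵁ D₂),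
            fun h => (he.symm ▸ (h : p' ∈ q₁.left ⁻¹ᵁ D₂) : p' ∈ q₂.left ⁻¹ᵁ D₁)⟩
        · rcases hp with ⟨rfl, hp⟩ | ⟨rfl, hp⟩
          · exact (eq_of_heq hp) ▸ hm
          · exact (eq_of_heq hp) ▸ hm'
      · push Not at hp
        fin_cases i
        · obtain ⟨U, hU, ht, hUs⟩ := exists_isAffineOpen_mem_and_subset
            (U := (⟨(Set.range q₂.left)ᶜ, q₂.left.isClosedEmbedding.isClosed_range.isOpen_compl⟩ : (T 0).left.Opens))
            (x := t) (by rintro ⟨p, hp'⟩; exact (hp p).1 rfl (heq_of_eq hp'))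
          refine ⟨Fin.cons U (Fin.cons ⊥ finZeroElim), Fin.forall_fin_two.2 ⟨hU, isAffineOpen_bot _⟩, fun y z h => ?_, ht⟩
          obtain ⟨p', hy, -⟩ := hmeet y z h
          exact ⟨fun h => absurd ⟨p', hy⟩ (hUs h), fun h => absurd h id⟩
        · obtain ⟨U, hU, ht, hUs⟩ := exists_isAffineOpen_mem_and_subset
            (U := (⟨(Set.range q₁.left)ᶜ, q₁.left.isClosedEmbedding.isClosed_range.isOpen_compl⟩ : (T 1).left.Opens))
            (x := t) (by rintro ⟨p, hp'⟩; exact (hp p).2 rfl (heq_of_eq hp'))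
          refine ⟨Fin.cons ⊥ (Fin.cons U finZeroElim), Fin.forall_fin_two.2 ⟨isAffineOpen_bot _, hU⟩, fun y z h => ?_, ht⟩
          obtain ⟨p', -, hz⟩ := hmeet y z h
          exact ⟨fun h => absurd h id, fun h => absurd ⟨p', hz⟩ (hUs h)⟩
    obtain ⟨D, hD, hcomp, ht⟩ := key
    obtain ⟨R, j, hj, hm⟩ := exists_affine_open_of_compatible X g hg hc D hD hcomp
    exact ⟨R, j, hj, hm i t ht⟩
  choose R j hj hmem using hlocal
  let ε : (Σ i : ULift.{u} (Fin 2), ↥(T i.down).left) → Σ i, ↥(T i).left := fun a => ⟨a.1.down, a.2⟩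
  obtain ⟨Q, ⟨eQ⟩, -⟩ := exists_iso_of_open_cover (fun a => R (ε a)) (fun a => j (ε a)) (fun a => hj (ε a)) (fun x => by
    obtain ⟨i, t, rfl⟩ := hc x
    obtain ⟨v, hv⟩ := hmem ⟨i, t⟩
    exact ⟨⟨⟨i⟩, t⟩, v, hv⟩)
  exact AlgSpDec.isRepresentable_of_iso eQ

end Groth.Agent.EtQC.Chev.Union
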